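import Cfsg.Agent.Base

/-!
# The conjugation `x ↦ x ^ q` of a field with `q ^ 2` elements

`CL.Herm.Conj σ q` says that `F` has `q ^ 2` elements and `σ x = x ^ q`.
Norm, trace, Hilbert 90 and the sizes of the fibres.
-/

set_option autoImplicit false

namespace CL.Herm

/-- `σ` is the conjugation `x ↦ x ^ q` of the field `F` with `q ^ 2` elements. -/
structure Conj {F : Type*} [Field F] (σ : F →+* F) (q : ℕ) : Prop where
  card : Nat.card F = q ^ 2
  apply : ∀ x, σ x = x ^ q

variable {F : Type*} [Field F]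

theorem exists_conj [Finite F] {q : ℕ} (h : Nat.card F = q ^ 2) : ∃ σ : F →+* F, Conj σ q := by
  classical
  have := Fintype.ofFinite F
  obtain ⟨p, hp⟩ := CharP.exists F
  obtain ⟨n, hpp, hn⟩ := FiniteField.card F p
  have : Fact p.Prime := ⟨hpp⟩
  have hq : q ∣ p ^ (n : ℕ) := by
    rw [← hn, ← Nat.card_eq_fintype_card, h]
    exact Dvd.intro_left (q ^ 1) (by ring)
  obtain ⟨k, -, hk⟩ := (Nat.dvd_prime_pow hpp).1 hq
  exact ⟨iterateFrobenius F p k, h, fun x => by rw [iterateFrobenius_def, hk]⟩

theorem exists_conj' [Fintype F] {q : ℕ} (h : Fintype.card F = q ^ 2) :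
    ∃ σ : F →+* F, Conj σ q :=
  exists_conj (by rw [Nat.card_eq_fintype_card, h])

namespace Conj

variable {σ : F →+* F} {q : ℕ} (h : Conj σ q)
include h

theorem q_ne_zero : q ≠ 0 := by
  intro hq
  have := h.apply 0
  rw [hq, pow_zero, map_zero] at this
  exact zero_ne_one this

theorem finite : Finite F :=
  Nat.finite_of_card_ne_zero (by rw [h.card]; exact pow_ne_zero _ h.q_ne_zero)

theorem two_le : 2 ≤ q := by
  have := h.finite
  have h1 : 1 < Nat.card F := Finite.one_lt_card
  rw [h.card] at h1
  have h0 := h.q_ne_zero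
  by_contra hlt
  have : q = 1 := by omega
  rw [this] at h1
  omega

theorem invol (x : F) : σ (σ x) = x := by
  have := h.finite
  have := Fintype.ofFinite F
  rw [h.apply, h.apply, ← pow_mul, ← sq, ← h.card, Nat.card_eq_fintype_card, FiniteField.pow_card]

theorem bijective : Function.Bijective σ :=
  Function.Involutive.bijective h.invol

theorem norm_eq (x : F) : x * σ x = x ^ (q + 1) := by
  rw [h.apply, pow_succ']

theorem card_units : Nat.card Fˣ = (q + 1) * (q - 1) := by
  have := h.finite
  rw [Nat.card_units, h.card]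
  have := h.two_le
  obtain ⟨k, rfl⟩ : ∃ k, q = k + 1 := ⟨q - 1, by omega⟩
  simp only [Nat.add_sub_cancel]
  apply Nat.sub_eq_of_eq_add
  ring

theorem card_ker_pow_succ : Nat.card (powMonoidHom (q + 1) : Fˣ →* Fˣ).ker = q + 1 := by
  have := h.finite
  rw [IsCyclic.card_powMonoidHom_ker, h.card_units]
  exact Nat.gcd_eq_right (Dvd.intro _ rfl)

theorem card_ker_pow_pred : Nat.card (powMonoidHom (q - 1) : Fˣ →* Fˣ).ker = q - 1 := by
  have := h.finite
  rw [IsCyclic.card_powMonoidHom_ker, h.card_units]
  exact Nat.gcd_eq_right (Dvd.intro_left _ rfl)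

theorem range_pow_succ :
    (powMonoidHom (q + 1) : Fˣ →* Fˣ).range = (powMonoidHom (q - 1) : Fˣ →* Fˣ).ker := by
  have := h.finite
  apply Subgroup.eq_of_le_of_card_ge
  · rintro _ ⟨x, rfl⟩
    simp only [MonoidHom.mem_ker, powMonoidHom_apply]
    rw [← pow_mul, ← h.card_units, pow_card_eq_one']
  · rw [h.card_ker_pow_pred, IsCyclic.card_powMonoidHom_range, h.card_units,
      Nat.gcd_eq_right (Dvd.intro _ rfl), Nat.mul_div_cancel_left _ (Nat.succ_pos q)]

theorem fixed_iff {c : F} (hc : c ≠ 0) : σ c = c ↔ c ^ (q - 1) = 1 := by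
  have h2 := h.two_le
  have : c ^ q = c ^ (q - 1) * c := by rw [← pow_succ]; congr 1; omega
  rw [h.apply, this]
  constructor
  · intro h1
    exact mul_right_cancel₀ hc (by rw [h1, one_mul])
  · intro h1
    rw [h1, one_mul]

/-- The norm is onto the fixed field. -/
theorem exists_norm {c : F} (hc : σ c = c) : ∃ x : F, x * σ x = c := by
  by_cases h0 : c = 0
  · exact ⟨0, by simp [h0]⟩
  have hm : Units.mk0 c h0 ∈ (powMonoidHom (q - 1) : Fˣ →* Fˣ).ker := by
    simp only [MonoidHom.mem_ker, powMonoidHom_apply]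
    ext
    simpa using (h.fixed_iff h0).1 hc
  rw [← h.range_pow_succ] at hm
  obtain ⟨x, hx⟩ := hm
  refine ⟨x, ?_⟩
  rw [h.norm_eq]
  simpa using congrArg Units.val hx

theorem card_norm_one : Nat.card {x : F // x * σ x = 1} = q + 1 := by
  rw [← h.card_ker_pow_succ]
  refine Nat.card_congr ⟨fun x => ⟨Units.mk0 x.1 (left_ne_zero_of_mul_eq_one x.2), ?_⟩,
    fun u => ⟨(u.1 : F), ?_⟩, fun x => by simp, fun u => by simp⟩
  · simp only [MonoidHom.mem_ker, powMonoidHom_apply]
    ext
    simpa [← h.norm_eq] using x.2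
  · have := u.2
    simp only [MonoidHom.mem_ker, powMonoidHom_apply] at this
    rw [h.norm_eq]
    simpa using congrArg Units.val this

/-- Every non-zero element of the fixed field is a norm in exactly `q + 1` ways. -/
theorem card_norm_fiber {c : F} (h0 : c ≠ 0) (hc : σ c = c) :
    Nat.card {x : F // x * σ x = c} = q + 1 := by
  obtain ⟨a, ha⟩ := h.exists_norm hc
  have ha0 : a ≠ 0 := by
    rintro rfl
    exact h0 (by simpa using ha.symm)
  have hs0 : σ a ≠ 0 := (map_ne_zero σ).2 ha0
  rw [← h.card_norm_one]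
  refine Nat.card_congr ⟨fun x => ⟨x.1 / a, ?_⟩, fun x => ⟨x.1 * a, ?_⟩, fun x => by simp [ha0],
    fun x => by simp [ha0]⟩
  · rw [map_div₀, div_mul_div_comm, x.2, ha, div_self h0]
  · rw [map_mul, mul_mul_mul_comm, x.2, ha, one_mul]

theorem card_fixed : Nat.card {x : F // σ x = x} = q := by
  classical
  have := h.finite
  have h2 := h.two_le
  have e : {x : F // σ x = x} ≃ Option (powMonoidHom (q - 1) : Fˣ →* Fˣ).ker :=
    { toFun := fun x => if hx : x.1 = 0 then none else some ⟨Units.mk0 x.1 hx, by
          simp only [MonoidHom.mem_ker, powMonoidHom_apply]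
          ext
          simpa using (h.fixed_iff hx).1 x.2⟩
      invFun := fun o => match o with
        | none => ⟨0, map_zero σ⟩
        | some u => ⟨(u.1 : F), (h.fixed_iff u.1.ne_zero).2 (by
            have := u.2
            simp only [MonoidHom.mem_ker, powMonoidHom_apply] at this
            simpa using congrArg Units.val this)⟩
      left_inv := fun x => by
        by_cases hx : x.1 = 0
        · simp only [hx, dite_true]
          exact Subtype.ext hx.symm
        · simp [hx]
      right_inv := fun o => by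
        cases o with
        | none => simp
        | some u => simp }
  rw [Nat.card_congr e, Finite.card_option, h.card_ker_pow_pred]
  omega

theorem exists_ne : ∃ t : F, σ t ≠ t := by
  by_contra hne
  push Not at hne
  have h1 : Nat.card {x : F // σ x = x} = Nat.card F :=
    Nat.card_congr (Equiv.subtypeUnivEquiv hne)
  rw [h.card_fixed, h.card] at h1
  have := h.two_le
  nlinarith

/-- Hilbert 90. -/
theorem exists_eq_mul_conj {d : F} (hd : d * σ d = 1) : ∃ a : F, a ≠ 0 ∧ a = d * σ a := by
  have key : ∀ t : F, t + d * σ t = d * σ (t + d * σ t) := fun t => by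
    rw [map_add, map_mul, h.invol, mul_add, ← mul_assoc, hd, one_mul, add_comm]
  by_contra hne
  push Not at hne
  have hz : ∀ t : F, t + d * σ t = 0 := fun t => by
    by_contra h0
    exact hne _ h0 (key t)
  obtain ⟨t, ht⟩ := h.exists_ne
  have h1 := hz 1
  rw [map_one, mul_one] at h1
  have hd1 : d = -1 := by linear_combination h1
  have h2 := hz t
  rw [hd1] at h2
  exact ht (by linear_combination -h2)

theorem exists_trace_one : ∃ θ : F, θ + σ θ = 1 := by
  obtain ⟨a, ha0, ha⟩ := h.exists_eq_mul_conj (d := 1) (by simp)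
  have : ∃ t : F, t + σ t ≠ 0 := by
    by_contra hne
    push Not at hne
    obtain ⟨t, ht⟩ := h.exists_ne
    have h1 := hne 1
    rw [map_one] at h1
    have h2 := hne t
    exact ht (by linear_combination h2 - t * h1)
  obtain ⟨t, ht⟩ := this
  refine ⟨t / (t + σ t), ?_⟩
  rw [map_div₀, map_add, h.invol, add_comm (σ t) t, ← add_div, div_self ht]

/-- The trace is onto the fixed field. -/
theorem exists_trace {c : F} (hc : σ c = c) : ∃ a : F, a + σ a = c := by
  obtain ⟨θ, hθ⟩ := h.exists_trace_one
  exact ⟨c * θ, by rw [map_mul, hc, ← mul_add, hθ, mul_one]⟩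

/-- Additive Hilbert 90. -/
theorem exists_sub_conj {c : F} (hc : σ c = -c) : ∃ a : F, a - σ a = c := by
  obtain ⟨θ, hθ⟩ := h.exists_trace_one
  exact ⟨c * θ, by rw [map_mul, hc]; linear_combination c * hθ⟩

theorem exists_skew : ∃ δ : F, δ ≠ 0 ∧ σ δ = -δ := by
  obtain ⟨t, ht⟩ := h.exists_ne
  exact ⟨t - σ t, sub_ne_zero.2 ht.symm, by rw [map_sub, h.invol, neg_sub]⟩

theorem card_skew : Nat.card {x : F // x + σ x = 0} = q := by
  obtain ⟨δ, h0, hδ⟩ := h.exists_skew
  rw [← h.card_fixed]
  refine Nat.card_congr ⟨fun x => ⟨x.1 / δ, ?_⟩, fun x => ⟨x.1 * δ, ?_⟩, fun x => by simp [h0],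
    fun x => by simp [h0]⟩
  · have : σ x.1 = -x.1 := by linear_combination x.2
    rw [map_div₀, this, hδ, neg_div_neg_eq]
  · rw [map_mul, x.2, hδ]
    ring

/-- Every element of the fixed field is a trace in exactly `q` ways. -/
theorem card_trace_fiber {c : F} (hc : σ c = c) : Nat.card {x : F // x + σ x = c} = q := by
  obtain ⟨a, ha⟩ := h.exists_trace hc
  rw [← h.card_skew]
  refine Nat.card_congr ⟨fun x => ⟨x.1 - a, ?_⟩, fun x => ⟨x.1 + a, ?_⟩, fun x => by simp,
    fun x => by simp⟩
  · rw [map_sub]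
    linear_combination x.2 - ha
  · rw [map_add]
    linear_combination x.2 + ha

theorem exists_norm_neg_one : ∃ x : F, x * σ x = -1 :=
  h.exists_norm (by simp)

theorem conj_norm (x : F) : σ (x * σ x) = x * σ x := by
  rw [map_mul, h.invol, mul_comm]

theorem conj_trace (x : F) : σ (x + σ x) = x + σ x := by
  rw [map_add, h.invol, add_comm]

/-- For `q > 2` the fixed field has an element other than `0` and `1`. -/
theorem exists_fixed_ne (hq : q ≠ 2) : ∃ a : F, σ a = a ∧ a ≠ 0 ∧ a ≠ 1 := by
  by_contra hne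
  push Not at hne
  have := h.finite
  have h2 := h.two_le
  have hle : Nat.card {x : F // σ x = x} ≤ Nat.card Bool := by
    classical
    refine Nat.card_le_card_of_injective (fun x => decide (x.1 = 0)) ?_
    intro x y hxy
    apply Subtype.ext
    by_cases hx : x.1 = 0
    · have : y.1 = 0 := by simpa [hx] using hxy
      rw [hx, this]
    · have hy : y.1 ≠ 0 := by simpa [hx] using hxy
      rw [hne _ x.2 hx, hne _ y.2 hy]
  rw [h.card_fixed] at hle
  simp at hle
  omega

/-- There is an element of norm `1` other than `1`; in fact outside any two given values. -/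
theorem exists_norm_one_ne (a b : F) : ∃ d : F, d * σ d = 1 ∧ d ≠ a ∧ d ≠ b := by
  by_contra hne
  push Not at hne
  have := h.finite
  have h2 := h.two_le
  have hle : Nat.card {x : F // x * σ x = 1} ≤ Nat.card Bool := by
    classical
    refine Nat.card_le_card_of_injective (fun x => decide (x.1 = a)) ?_
    intro x y hxy
    apply Subtype.ext
    by_cases hx : x.1 = a
    · have : y.1 = a := by simpa [hx] using hxy
      rw [hx, this]
    · have hy : y.1 ≠ a := by simpa [hx] using hxy
      rw [hne _ x.2 hx, hne _ y.2 hy]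
  rw [h.card_norm_one] at hle
  simp at hle
  omega

end Conj

/-- A non-trivial involution of a finite field is the conjugation `x ↦ x ^ q`, `|F| = q ^ 2`. -/
theorem exists_conj_of_invol [Finite F] (σ : F →+* F) (hσ : σ ≠ RingHom.id F)
    (hσ2 : ∀ a : F, σ (σ a) = a) : ∃ q, Conj σ q := by
  classical
  let K : Subfield F := σ.eqLocusField (RingHom.id F)
  have hK : ∀ x, x ∈ K ↔ σ x = x := fun x => Iff.rfl
  obtain ⟨t, ht⟩ : ∃ t, σ t ≠ t := by
    by_contra hne
    push Not at hne
    exact hσ (RingHom.ext hne)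
  have hδ0 : t - σ t ≠ 0 := sub_ne_zero.2 ht.symm
  have hδ : σ (t - σ t) = -(t - σ t) := by rw [map_sub, hσ2, neg_sub]
  -- `F = K ⊕ K t`
  have e : F ≃ K × K :=
    { toFun := fun x => (⟨(x - σ x) / (t - σ t), by
          rw [hK, map_div₀, hδ, map_sub, hσ2, ← neg_sub x, neg_div_neg_eq]⟩,
        ⟨(t * σ x - σ t * x) / (t - σ t), by
          rw [hK, map_div₀, hδ, map_sub, map_mul, map_mul, hσ2, hσ2, ← neg_sub (t * σ x),
            neg_div_neg_eq]⟩)
      invFun := fun y => y.1.1 * t + y.2.1
      left_inv := fun x => by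
        field_simp
        ring
      right_inv := fun y => by
        obtain ⟨⟨a, ha⟩, ⟨b, hb⟩⟩ := y
        rw [hK] at ha hb
        ext
        · simp only [map_add, map_mul, ha, hb]
          field_simp
          ring
        · simp only [map_add, map_mul, ha, hb]
          field_simp
          ring }
  have hcard : Nat.card F = Nat.card K ^ 2 := by
    rw [Nat.card_congr e, Nat.card_prod, sq]
  obtain ⟨τ, hτ⟩ := exists_conj hcard
  have hKτ : ∀ x, σ x = x → τ x = x := fun x hx => by
    have := Fintype.ofFinite K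
    have h1 := FiniteField.pow_card (⟨x, (hK x).2 hx⟩ : K)
    rw [hτ.apply, Nat.card_eq_fintype_card]
    simpa using congrArg Subtype.val h1
  have hτK : ∀ x, τ x = x → σ x = x := by
    let f : K → {x : F // τ x = x} := fun x => ⟨x.1, hKτ x.1 x.2⟩
    have hf : Function.Injective f := fun x y hxy =>
      Subtype.ext (congrArg (fun z : {x : F // τ x = x} => z.1) hxy)
    have hb : Function.Bijective f := hf.bijective_of_nat_card_le (by rw [hτ.card_fixed])
    intro x hx
    obtain ⟨y, hy⟩ := hb.2 ⟨x, hx⟩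
    have : y.1 = x := congrArg Subtype.val hy
    rw [← this]
    exact y.2
  refine ⟨Nat.card K, hcard, fun x => ?_⟩
  rw [← hτ.apply]
  by_cases hx : σ x = x
  · rw [hx, hKτ x hx]
  · have h1 : τ (x + σ x) = x + σ x := hKτ _ (by rw [map_add, hσ2, add_comm])
    have h2 : τ (x * σ x) = x * σ x := hKτ _ (by rw [map_mul, hσ2, mul_comm])
    rw [map_add] at h1
    rw [map_mul] at h2
    have h3 : (τ x - x) * (τ x - σ x) = 0 := by
      linear_combination (τ x) * h1 - h2
    rcases mul_eq_zero.1 h3 with h4 | h4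
    · exact absurd (hτK x (sub_eq_zero.1 h4)) hx
    · exact (sub_eq_zero.1 h4).symm

end CL.Herm
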