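import Cfsg.Agent.Base
import Cfsg.Agent.Unitary.Field

/-!
# Hermitian spaces over a field with `q ^ 2` elements

`IsHerm q B`: `B` is a non-degenerate Hermitian form (conjugate-linear in the first variable).
Orthogonal complements, non-degenerate subspaces, unit vectors, hyperbolic partners,
orthonormal bases.
-/

set_option autoImplicit false

namespace CL.Herm

open Module

variable {F V : Type*} [Field F] [AddCommGroup V] [Module F V] {σ : F →+* F}

/-- `B` is a non-degenerate Hermitian form for the conjugation `x ↦ x ^ q`. -/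
structure IsHerm (q : ℕ) (B : V →ₛₗ[σ] V →ₗ[F] F) : Prop where
  conj : Conj σ q
  symm : ∀ x y, σ (B x y) = B y x
  nd : ∀ x, (∀ y, B x y = 0) → x = 0

/-- The orthogonal complement. -/
def perp (B : V →ₛₗ[σ] V →ₗ[F] F) (W : Submodule F V) : Submodule F V :=
  W.orthogonalBilin B

/-- `W` is a non-degenerate subspace. -/
def Nd (B : V →ₛₗ[σ] V →ₗ[F] F) (W : Submodule F V) : Prop :=
  ∀ x ∈ W, (∀ y ∈ W, B x y = 0) → x = 0

variable {q : ℕ} {B : V →ₛₗ[σ] V →ₗ[F] F}

theorem mem_perp {W : Submodule F V} {y : V} : y ∈ perp B W ↔ ∀ x ∈ W, B x y = 0 := Iff.rfl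

theorem perp_anti {U W : Submodule F V} (h : U ≤ W) : perp B W ≤ perp B U :=
  fun _ hy x hx => hy x (h hx)

theorem perp_bot : perp B ⊥ = ⊤ := by
  ext y
  simp [mem_perp]

theorem perp_sup (U W : Submodule F V) : perp B (U ⊔ W) = perp B U ⊓ perp B W := by
  apply le_antisymm
  · exact le_inf (perp_anti le_sup_left) (perp_anti le_sup_right)
  · intro y hy x hx
    obtain ⟨a, ha, b, hb, rfl⟩ := Submodule.mem_sup.1 hx
    simp [hy.1 a ha, hy.2 b hb]

theorem mem_perp_span {S : Set V} {y : V} :
    y ∈ perp B (Submodule.span F S) ↔ ∀ x ∈ S, B x y = 0 := by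
  refine ⟨fun h x hx => h x (Submodule.subset_span hx), fun h x hx => ?_⟩
  induction hx using Submodule.span_induction with
  | mem x hx => exact h x hx
  | zero => simp
  | add a b _ _ ha hb => simp [ha, hb]
  | smul c a _ ha => simp [ha]

theorem mem_perp_span_singleton {x y : V} : y ∈ perp B (F ∙ x) ↔ B x y = 0 := by
  simp [mem_perp_span]

theorem mem_perp_span_pair {x x' y : V} :
    y ∈ perp B (Submodule.span F {x, x'}) ↔ B x y = 0 ∧ B x' y = 0 := by
  simp [mem_perp_span]

theorem nd_bot : Nd B ⊥ := fun _ hx _ => (Submodule.mem_bot F).1 hx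

theorem nd_span_singleton {e : V} (he : B e e ≠ 0) : Nd B (F ∙ e) := by
  intro x hx h
  obtain ⟨a, rfl⟩ := Submodule.mem_span_singleton.1 hx
  have := h e (Submodule.mem_span_singleton_self e)
  simp only [LinearMap.map_smulₛₗ, LinearMap.smul_apply, smul_eq_mul, mul_eq_zero, map_eq_zero,
    he, or_false] at this
  simp [this]

/-- A Hermitian form all of whose vectors in `W` are isotropic vanishes on `W`. -/
theorem eq_zero_of_forall_isotropic (hσ : ∃ t, σ t ≠ t)
    {W : Submodule F V} (h0 : ∀ v ∈ W, B v v = 0) {x y : V} (hx : x ∈ W) (hy : y ∈ W) :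
    B x y = 0 := by
  obtain ⟨t, ht⟩ := hσ
  have h1 := h0 (x + y) (W.add_mem hx hy)
  have h2 := h0 (x + t • y) (W.add_mem hx (W.smul_mem t hy))
  simp only [map_add, LinearMap.add_apply, h0 x hx, h0 y hy, LinearMap.map_smulₛₗ,
    LinearMap.smul_apply, smul_eq_mul, RingHom.id_apply] at h1 h2
  have h3 : (t - σ t) * B x y = 0 := by linear_combination h2 - σ t * h1
  rcases mul_eq_zero.1 h3 with h4 | h4
  · exact absurd (sub_eq_zero.1 h4).symm ht
  · exact h4

namespace IsHerm

variable (H : IsHerm q B)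
include H

theorem eq_zero_comm {x y : V} : B x y = 0 ↔ B y x = 0 := by
  rw [← H.symm x y, map_eq_zero σ]

theorem eq_zero_symm {x y : V} (h : B x y = 0) : B y x = 0 := H.eq_zero_comm.1 h

theorem eq_one_symm {x y : V} (h : B x y = 1) : B y x = 1 := by
  rw [← H.symm, h, map_one]

theorem conj_self (x : V) : σ (B x x) = B x x := H.symm x x

theorem nd_right (y : V) (h : ∀ x, B x y = 0) : y = 0 :=
  H.nd y fun x => H.eq_zero_symm (h x)

theorem ext_left {x y : V} (h : ∀ z, B x z = B y z) : x = y :=
  sub_eq_zero.1 (H.nd _ fun z => by simp [h z])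

theorem ext_right {x y : V} (h : ∀ z, B z x = B z y) : x = y :=
  sub_eq_zero.1 (H.nd_right _ fun z => by simp [h z])

theorem nd_top : Nd B ⊤ := fun x _ h => H.nd x fun y => h y trivial

theorem mem_perp' {W : Submodule F V} {y : V} : y ∈ perp B W ↔ ∀ x ∈ W, B y x = 0 :=
  ⟨fun h x hx => H.eq_zero_symm (h x hx), fun h x hx => H.eq_zero_symm (h x hx)⟩

theorem perp_top : perp B ⊤ = ⊥ := by
  rw [eq_bot_iff]
  intro y hy
  exact H.nd_right y fun x => hy x trivial

theorem le_perp_perp (W : Submodule F V) : W ≤ perp B (perp B W) :=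
  fun x hx _ hy => H.eq_zero_symm (hy x hx)

theorem le_perp_comm {U W : Submodule F V} (h : U ≤ perp B W) : W ≤ perp B U :=
  fun x hx _ hy => H.eq_zero_symm (h hy x hx)

theorem nd_iff {W : Submodule F V} : Nd B W ↔ W ⊓ perp B W = ⊥ := by
  rw [eq_bot_iff]
  refine ⟨fun h x hx => h x hx.1 (H.mem_perp'.1 hx.2), fun h x hx h' => h ⟨hx, H.mem_perp'.2 h'⟩⟩

/-- The restriction of the form to a non-degenerate subspace. -/
theorem restrict {W : Submodule F V} (hW : Nd B W) : IsHerm q (B.domRestrict₁₂ W W) where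
  conj := H.conj
  symm := fun x y => H.symm x y
  nd := fun x h => Subtype.ext (hW x x.2 fun y hy => h ⟨y, hy⟩)

theorem exists_anisotropic {W : Submodule F V} (hW : Nd B W) (h0 : W ≠ ⊥) :
    ∃ e ∈ W, B e e ≠ 0 := by
  by_contra hne
  push Not at hne
  apply h0
  rw [eq_bot_iff]
  intro x hx
  exact hW x hx fun y hy => eq_zero_of_forall_isotropic H.conj.exists_ne hne hx hy

omit H in
theorem smul_smul_self (a : F) (x : V) : B (a • x) (a • x) = a * σ a * B x x := by
  simp only [LinearMap.map_smulₛₗ, LinearMap.smul_apply, smul_eq_mul, RingHom.id_apply]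
  ring

/-- An anisotropic vector can be rescaled to any non-zero norm. -/
theorem exists_smul_norm_eq {e : V} (he : B e e ≠ 0) {c : F} (hc : σ c = c) :
    ∃ a : F, B (a • e) (a • e) = c := by
  obtain ⟨a, ha⟩ := H.conj.exists_norm (c := c / B e e) (by rw [map_div₀, hc, H.conj_self])
  exact ⟨a, by rw [smul_smul_self, ha, div_mul_cancel₀ _ he]⟩

theorem exists_unit {W : Submodule F V} (hW : Nd B W) (h0 : W ≠ ⊥) : ∃ e ∈ W, B e e = 1 := by
  obtain ⟨e, he, he0⟩ := H.exists_anisotropic hW h0
  obtain ⟨a, ha⟩ := H.exists_smul_norm_eq he0 (map_one σ)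
  exact ⟨a • e, W.smul_mem a he, ha⟩

/-- Adding a multiple of an isotropic vector `r` not orthogonal to `s` gives any norm. -/
theorem exists_add_smul_norm_eq {r s : V} (hr : B r r = 0) (hrs : B r s ≠ 0) {c : F}
    (hc : σ c = c) : ∃ a : F, B (s + a • r) (s + a • r) = c := by
  obtain ⟨b, hb⟩ := H.conj.exists_trace (c := c - B s s) (by rw [map_sub, hc, H.conj_self])
  have hsr : B s r ≠ 0 := fun h => hrs (H.eq_zero_symm h)
  refine ⟨b / B s r, ?_⟩
  simp only [map_add, LinearMap.add_apply, LinearMap.map_smulₛₗ, LinearMap.smul_apply,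
    smul_eq_mul, RingHom.id_apply, hr, map_div₀, H.symm, mul_zero, add_zero]
  rw [div_mul_cancel₀ _ hrs, div_mul_cancel₀ _ hsr]
  linear_combination hb

theorem nd_span_pair {r s : V} (hr : B r r = 0) (hrs : B r s ≠ 0) :
    Nd B (Submodule.span F {r, s}) := by
  intro x hx h
  obtain ⟨a, b, rfl⟩ := Submodule.mem_span_pair.1 hx
  have h1 := h r (Submodule.subset_span (by simp))
  have h2 := h s (Submodule.subset_span (by simp))
  have hsr : B s r ≠ 0 := fun h => hrs (H.eq_zero_symm h)
  simp only [map_add, LinearMap.add_apply, LinearMap.map_smulₛₗ, LinearMap.smul_apply,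
    smul_eq_mul, hr, mul_zero, zero_add, mul_eq_zero, map_eq_zero, hsr, or_false] at h1 h2
  simp only [h1, map_zero, zero_mul, add_zero, mul_eq_zero, map_eq_zero, hrs, or_false] at h2
  simp [h1, h2]

omit H in
theorem linearIndependent_pair {r s : V} (hr : B r r = 0) (hrs : B r s ≠ 0) :
    LinearIndependent F ![r, s] := by
  rw [LinearIndependent.pair_iff]
  intro a b h
  have h1 := congrArg (B r) h
  simp only [map_add, map_smul, hr, smul_eq_mul, mul_zero, zero_add, map_zero, mul_eq_zero, hrs,
    or_false] at h1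
  have hr0 : r ≠ 0 := by
    rintro rfl
    simp at hrs
  simpa [h1, hr0] using h

omit H in
theorem finrank_span_pair {r s : V} (hr : B r r = 0) (hrs : B r s ≠ 0) :
    finrank F (Submodule.span F {r, s}) = 2 := by
  have := finrank_span_eq_card (linearIndependent_pair hr hrs)
  rw [Matrix.range_cons, Matrix.range_cons, Matrix.range_empty, Set.union_empty,
    Set.singleton_union] at this
  simpa using this

variable [FiniteDimensional F V]

theorem finite : Finite V := by
  have := H.conj.finite
  exact Module.finite_of_finite F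

theorem card_eq (W : Submodule F V) : Nat.card W = q ^ (2 * finrank F W) := by
  rw [Module.natCard_eq_pow_finrank (K := F), H.conj.card, pow_mul]

/-- Every linear functional is represented by a vector. -/
theorem exists_rep (f : V →ₗ[F] F) : ∃ s : V, ∀ x, B s x = f x := by
  have := H.conj.finite
  have := H.finite
  have hinj : Function.Injective (B : V → (V →ₗ[F] F)) := fun x y hxy =>
    H.ext_left fun z => by rw [hxy]
  have hfin : Finite (Module.Dual F V) := Module.finite_of_finite F
  have hb : Function.Bijective (B : V → (Module.Dual F V)) :=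
    hinj.bijective_of_nat_card_le (by
      rw [Module.natCard_eq_pow_finrank (K := F), Module.natCard_eq_pow_finrank (K := F) (V := V),
        Subspace.dual_finrank_eq])
  obtain ⟨s, hs⟩ := hb.2 f
  exact ⟨s, fun x => by rw [hs]⟩

/-- Relative version: inside a non-degenerate subspace. -/
theorem exists_rep_mem {W : Submodule F V} (hW : Nd B W) (f : V →ₗ[F] F) :
    ∃ s ∈ W, ∀ x ∈ W, B s x = f x := by
  obtain ⟨s, hs⟩ := (H.restrict hW).exists_rep (f.comp W.subtype)
  exact ⟨s, s.2, fun x hx => hs ⟨x, hx⟩⟩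

theorem finrank_perp_add (W : Submodule F V) :
    finrank F (perp B W) + finrank F W = finrank F V := by
  let b := Module.finBasis F W
  let φ : V →ₗ[F] (Fin (finrank F W) → F) := LinearMap.pi fun i => B (b i)
  have hker : LinearMap.ker φ = perp B W := by
    ext y
    simp only [φ, LinearMap.mem_ker, funext_iff, LinearMap.pi_apply, Pi.zero_apply]
    refine ⟨fun h x hx => ?_, fun h i => h _ (b i).2⟩
    have := congrArg Subtype.val (b.sum_repr ⟨x, hx⟩)
    simp only [AddSubmonoidClass.coe_finsetSum, SetLike.val_smul] at this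
    rw [← this]
    simp [map_sum, h]
  have hsurj : LinearMap.range φ = ⊤ := by
    rw [LinearMap.range_eq_top]
    intro c
    obtain ⟨g, hg⟩ := LinearMap.exists_extend (b.constr F fun i => σ (c i))
    obtain ⟨s, hs⟩ := H.exists_rep g
    refine ⟨s, funext fun i => ?_⟩
    have := LinearMap.congr_fun hg (b i)
    simp only [LinearMap.coe_comp, Submodule.coe_subtype, Function.comp_apply,
      Basis.constr_basis] at this
    simp only [φ, LinearMap.pi_apply]
    rw [← H.symm, hs, this, H.conj.invol]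
  have := φ.finrank_range_add_finrank_ker
  rw [hker, hsurj] at this
  simp only [finrank_top, finrank_fintype_fun_eq_card, Fintype.card_fin] at this
  omega

theorem finrank_perp (W : Submodule F V) : finrank F (perp B W) = finrank F V - finrank F W := by
  have := H.finrank_perp_add W
  omega

theorem perp_perp (W : Submodule F V) : perp B (perp B W) = W := by
  symm
  apply Submodule.eq_of_le_of_finrank_eq (H.le_perp_perp W)
  have h1 := H.finrank_perp_add W
  have h2 := H.finrank_perp_add (perp B W)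
  omega

theorem perp_injective : Function.Injective (perp B) := fun U W h => by
  rw [← H.perp_perp U, h, H.perp_perp]

theorem perp_inf (U W : Submodule F V) : perp B (U ⊓ W) = perp B U ⊔ perp B W := by
  apply H.perp_injective
  rw [H.perp_perp, perp_sup, H.perp_perp, H.perp_perp]

theorem isCompl_perp {W : Submodule F V} (hW : Nd B W) : IsCompl W (perp B W) := by
  have h0 := H.nd_iff.1 hW
  refine ⟨disjoint_iff.2 h0, codisjoint_iff.2 ?_⟩
  apply Submodule.eq_top_of_finrank_eq
  have h1 := Submodule.finrank_sup_add_finrank_inf_eq W (perp B W)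
  have h2 := H.finrank_perp_add W
  rw [h0, finrank_bot] at h1
  omega

theorem nd_perp {W : Submodule F V} (hW : Nd B W) : Nd B (perp B W) := by
  rw [H.nd_iff, H.perp_perp, inf_comm]
  exact H.nd_iff.1 hW

theorem exists_decomp {W : Submodule F V} (hW : Nd B W) (x : V) :
    ∃ a ∈ W, ∃ b ∈ perp B W, a + b = x :=
  Submodule.mem_sup.1 (by rw [(H.isCompl_perp hW).sup_eq_top]; trivial)

theorem finrank_inf_perp_add {W X : Submodule F V} (hW : Nd B W) (hX : X ≤ W) :
    finrank F (W ⊓ perp B X : Submodule F V) + finrank F X = finrank F W := by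
  have h1 := Submodule.finrank_sup_add_finrank_inf_eq W (perp B X)
  have h2 : W ⊔ perp B X = ⊤ := by
    rw [eq_top_iff, ← (H.isCompl_perp hW).sup_eq_top]
    exact sup_le_sup_left (perp_anti hX) _
  have h3 := H.finrank_perp_add X
  rw [h2, finrank_top] at h1
  omega

theorem nd_inf_perp {W U : Submodule F V} (hW : Nd B W) (hU : Nd B U) (hUW : U ≤ W) :
    Nd B (W ⊓ perp B U) := by
  intro x hx h
  refine hW x hx.1 fun y hy => ?_
  obtain ⟨a, ha, b, hb, rfl⟩ := H.exists_decomp hU y
  have hbW : b ∈ W := by simpa using W.sub_mem hy (hUW ha)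
  rw [map_add, h b ⟨hbW, hb⟩, H.eq_zero_symm (hx.2 a ha), add_zero]

omit [FiniteDimensional F V] in
theorem nd_sup {W U : Submodule F V} (hW : Nd B W) (hU : Nd B U) (h : U ≤ perp B W) :
    Nd B (W ⊔ U) := by
  intro x hx hx0
  obtain ⟨a, ha, b, hb, rfl⟩ := Submodule.mem_sup.1 hx
  have ha0 : a = 0 := hW a ha fun y hy => by
    have := hx0 y (Submodule.mem_sup_left hy)
    rwa [map_add, LinearMap.add_apply, H.eq_zero_symm (h hb y hy), add_zero] at this
  have hb0 : b = 0 := hU b hb fun y hy => by
    have := hx0 y (Submodule.mem_sup_right hy)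
    rwa [map_add, LinearMap.add_apply, h hy a ha, zero_add] at this
  rw [ha0, hb0, add_zero]

/-- A vector `r ∉ X` of a non-degenerate subspace `W ⊇ X` has a partner `s ∈ W`, `s ⊥ X`. -/
theorem exists_dual {W X : Submodule F V} (hW : Nd B W) (hX : X ≤ W) {r : V} (hr : r ∈ W)
    (hrX : r ∉ X) : ∃ s ∈ W, B r s = 1 ∧ ∀ x ∈ X, B x s = 0 := by
  obtain ⟨f, hf, hfr⟩ := LinearMap.exists_extend_of_notMem (0 : X →ₗ[F] F) hrX 1
  obtain ⟨s, hsW, hs⟩ := H.exists_rep_mem hW f
  refine ⟨s, hsW, H.eq_one_symm (by rw [hs r hr, hfr]), fun x hx => H.eq_zero_symm ?_⟩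
  rw [hs x (hX hx)]
  simpa using LinearMap.congr_fun hf ⟨x, hx⟩

/-- Hyperbolic partner: an isotropic `r ∈ W`, `r ∉ X`, `r ⊥ X` has an isotropic partner in `W`
orthogonal to `X`. -/
theorem exists_partner {W X : Submodule F V} (hW : Nd B W) (hX : X ≤ W) {r : V} (hr : r ∈ W)
    (hrX : r ∉ X) (hr0 : B r r = 0) (hXr : ∀ x ∈ X, B x r = 0) :
    ∃ s ∈ W, B s s = 0 ∧ B r s = 1 ∧ ∀ x ∈ X, B x s = 0 := by
  obtain ⟨s, hsW, hrs, hXs⟩ := H.exists_dual hW hX hr hrX
  obtain ⟨a, ha⟩ := H.exists_add_smul_norm_eq hr0 (by rw [hrs]; exact one_ne_zero) (map_zero σ)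
  refine ⟨s + a • r, W.add_mem hsW (W.smul_mem a hr), ha, by simp [hrs, hr0], fun x hx => ?_⟩
  simp [hXs x hx, hXr x hx]

theorem exists_partner' {W : Submodule F V} (hW : Nd B W) {r : V} (hr : r ∈ W)
    (hr1 : r ≠ 0) (hr0 : B r r = 0) : ∃ s ∈ W, B s s = 0 ∧ B r s = 1 := by
  obtain ⟨s, h1, h2, h3, -⟩ := H.exists_partner hW (X := ⊥) bot_le hr (by simpa using hr1) hr0
    (by simp)
  exact ⟨s, h1, h2, h3⟩

/-- A non-degenerate subspace of dimension `k` holds `k` orthonormal vectors. -/
theorem exists_orthonormal (k : ℕ) : ∀ {W : Submodule F V}, Nd B W → k ≤ finrank F W →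
    ∃ v : Fin k → V, (∀ i, v i ∈ W) ∧ ∀ i j, B (v i) (v j) = if i = j then 1 else 0 := by
  induction k with
  | zero => exact fun _ _ => ⟨Fin.elim0, fun i => i.elim0, fun i => i.elim0⟩
  | succ k ih =>
    intro W hW hk
    have h0 : W ≠ ⊥ := by
      rintro rfl
      simp at hk
    obtain ⟨e, heW, he⟩ := H.exists_unit hW h0
    have he0 : e ≠ 0 := by
      rintro rfl
      simp at he
    have hle : (F ∙ e) ≤ W := (Submodule.span_singleton_le_iff_mem _ _).2 heW
    have hnd := H.nd_inf_perp hW (nd_span_singleton (by rw [he]; exact one_ne_zero)) hle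
    have hdim := H.finrank_inf_perp_add hW hle
    rw [finrank_span_singleton he0] at hdim
    obtain ⟨v, hv, hv'⟩ := ih hnd (by omega)
    have hev : ∀ i, B e (v i) = 0 := fun i => mem_perp_span_singleton.1 (hv i).2
    refine ⟨Fin.cons e v, fun i => ?_, fun i j => ?_⟩
    · refine Fin.cases ?_ (fun i => ?_) i
      · simpa using heW
      · simpa using (hv i).1
    · refine Fin.cases ?_ (fun i => ?_) i <;> refine Fin.cases ?_ (fun j => ?_) j
      · simpa using he
      · simpa [(Fin.succ_ne_zero j).symm] using hev j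
      · simpa using H.eq_zero_symm (hev i)
      · simpa using hv' i j

omit H [FiniteDimensional F V] in
theorem linearIndependent_of_orthonormal {ι : Type*} [DecidableEq ι] {v : ι → V}
    (hv : ∀ i j, B (v i) (v j) = if i = j then 1 else 0) : LinearIndependent F v := by
  rw [linearIndependent_iff']
  intro s g hg i hi
  have := congrArg (B (v i)) hg
  simpa [map_sum, hv, hi] using this

/-- Orthonormal bases exist. -/
theorem exists_orthonormal_basis {n : ℕ} (hn : finrank F V = n) :
    ∃ b : Basis (Fin n) F V, ∀ i j, B (b i) (b j) = if i = j then 1 else 0 := by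
  obtain ⟨v, -, hv⟩ := H.exists_orthonormal n H.nd_top (by simp [hn])
  exact ⟨basisOfLinearIndependentOfCardEqFinrank' v (linearIndependent_of_orthonormal hv)
    (by simp [hn]), by simpa using hv⟩

/-- A non-degenerate subspace of dimension at least two has a non-zero isotropic vector. -/
theorem exists_isotropic {W : Submodule F V} (hW : Nd B W) (h2 : 2 ≤ finrank F W) :
    ∃ r ∈ W, r ≠ 0 ∧ B r r = 0 := by
  obtain ⟨v, hvW, hv⟩ := H.exists_orthonormal 2 hW h2
  obtain ⟨a, ha⟩ := H.conj.exists_norm_neg_one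
  refine ⟨v 0 + a • v 1, W.add_mem (hvW 0) (W.smul_mem a (hvW 1)), fun h => ?_, ?_⟩
  · have := congrArg (B (v 0)) h
    simp [hv] at this
  · simp only [map_add, LinearMap.add_apply, LinearMap.map_smulₛₗ, LinearMap.smul_apply,
      smul_eq_mul, RingHom.id_apply, hv]
    simp
    linear_combination ha

/-- A unit vector of `W` orthogonal to a non-degenerate subspace `U < W`. -/
theorem exists_unit_perp {W U : Submodule F V} (hW : Nd B W) (hU : Nd B U) (hUW : U ≤ W)
    (hlt : finrank F U < finrank F W) : ∃ e ∈ W, B e e = 1 ∧ ∀ x ∈ U, B x e = 0 := by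
  have hdim := H.finrank_inf_perp_add hW hUW
  obtain ⟨e, he, he1⟩ := H.exists_unit (H.nd_inf_perp hW hU hUW) (by
    intro h0
    rw [h0, finrank_bot] at hdim
    omega)
  exact ⟨e, he.1, he1, he.2⟩

theorem exists_unit_perp_pair {W : Submodule F V} (hW : Nd B W) (h3 : 3 ≤ finrank F W) {r s : V}
    (hrW : r ∈ W) (hsW : s ∈ W) (hr : B r r = 0) (hrs : B r s ≠ 0) :
    ∃ e ∈ W, B e e = 1 ∧ B r e = 0 ∧ B s e = 0 := by
  obtain ⟨e, heW, he, h⟩ := H.exists_unit_perp hW (H.nd_span_pair hr hrs)
    (Submodule.span_le.2 (by rintro x (rfl | rfl) <;> assumption))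
    (by rw [finrank_span_pair hr hrs]; omega)
  exact ⟨e, heW, he, h r (Submodule.subset_span (by simp)), h s (Submodule.subset_span (by simp))⟩

end IsHerm

end CL.Herm
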