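import Cfsg.Agent.Base
import Cfsg.Agent.Unitary.Basic
import Cfsg.Agent.Auto.ACL_Herm_Nd_83f921

/-!
# The isometry groups of a Hermitian form and Witt's theorem
-/

set_option autoImplicit false

namespace CL.Herm

open Module

variable {F V : Type*} [Field F] [AddCommGroup V] [Module F V] {σ : F →+* F}

/-- The unitary group of `B`. -/
def UG (B : V →ₛₗ[σ] V →ₗ[F] F) : Subgroup (V ≃ₗ[F] V) where
  carrier := {g | ∀ x y, B (g x) (g y) = B x y}
  mul_mem' {a b} ha hb := fun x y => by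
    rw [LinearEquiv.mul_apply, LinearEquiv.mul_apply, ha, hb]
  one_mem' := fun _ _ => rfl
  inv_mem' {a} ha := fun x y => by
    rw [← ha]
    simp

/-- The special unitary group of `B`. -/
noncomputable def SUG (B : V →ₛₗ[σ] V →ₗ[F] F) : Subgroup (V ≃ₗ[F] V) :=
  UG B ⊓ (LinearEquiv.det : (V ≃ₗ[F] V) →* Fˣ).ker

/-- The subgroup fixing a subspace pointwise. -/
def fixG (X : Submodule F V) : Subgroup (V ≃ₗ[F] V) where
  carrier := {g | ∀ x ∈ X, g x = x}
  mul_mem' {a b} ha hb := fun x hx => by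
    rw [LinearEquiv.mul_apply, hb x hx, ha x hx]
  one_mem' := fun _ _ => rfl
  inv_mem' {a} ha := fun x hx => by
    conv_lhs => rw [← ha x hx]
    simp

variable {q : ℕ} {B : V →ₛₗ[σ] V →ₗ[F] F}

theorem mem_UG {g : V ≃ₗ[F] V} : g ∈ UG B ↔ ∀ x y, B (g x) (g y) = B x y := Iff.rfl

theorem mem_SUG {g : V ≃ₗ[F] V} :
    g ∈ SUG B ↔ g ∈ UG B ∧ LinearMap.det (g : V →ₗ[F] V) = 1 := by
  simp only [SUG, Subgroup.mem_inf, MonoidHom.mem_ker, ← Units.val_inj, LinearEquiv.coe_det,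
    Units.val_one]

theorem SUG_le_UG : SUG B ≤ UG B := inf_le_left

theorem mem_fixG {X : Submodule F V} {g : V ≃ₗ[F] V} : g ∈ fixG X ↔ ∀ x ∈ X, g x = x := Iff.rfl

theorem fixG_anti {X Y : Submodule F V} (h : X ≤ Y) : fixG Y ≤ fixG X :=
  fun _ hg x hx => hg x (h hx)

theorem fixG_bot : fixG (⊥ : Submodule F V) = ⊤ := by
  rw [eq_top_iff]
  intro g _ x hx
  rw [(Submodule.mem_bot F).1 hx, map_zero]

theorem fixG_top : fixG (⊤ : Submodule F V) = ⊥ := by
  rw [eq_bot_iff]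
  intro g hg
  exact LinearEquiv.ext fun x => hg x trivial

theorem mem_fixG_sup {X Y : Submodule F V} {g : V ≃ₗ[F] V} :
    g ∈ fixG (X ⊔ Y) ↔ g ∈ fixG X ∧ g ∈ fixG Y := by
  refine ⟨fun h => ⟨fixG_anti le_sup_left h, fixG_anti le_sup_right h⟩, fun h x hx => ?_⟩
  obtain ⟨a, ha, b, hb, rfl⟩ := Submodule.mem_sup.1 hx
  rw [map_add, h.1 a ha, h.2 b hb]

theorem mem_fixG_span {S : Set V} {g : V ≃ₗ[F] V} :
    g ∈ fixG (Submodule.span F S) ↔ ∀ x ∈ S, g x = x := by
  refine ⟨fun h x hx => h x (Submodule.subset_span hx), fun h x hx => ?_⟩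
  induction hx using Submodule.span_induction with
  | mem x hx => exact h x hx
  | zero => simp
  | add a b _ _ ha hb => simp [ha, hb]
  | smul c a _ ha => simp [ha]

theorem mem_fixG_sup_span_singleton {X : Submodule F V} {s : V} {g : V ≃ₗ[F] V} :
    g ∈ fixG (X ⊔ F ∙ s) ↔ g ∈ fixG X ∧ g s = s := by
  simp [mem_fixG_sup, mem_fixG_span]

theorem UG_apply_left {g : V ≃ₗ[F] V} (hg : g ∈ UG B) (x y : V) : B (g x) y = B x (g⁻¹ y) := by
  rw [← hg x (g⁻¹ y)]
  simp

theorem UG_apply_right {g : V ≃ₗ[F] V} (hg : g ∈ UG B) (x y : V) : B x (g y) = B (g⁻¹ x) y := by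
  rw [← hg (g⁻¹ x) y]
  simp

/-- An isometry fixing `X` pointwise preserves `perp X`. -/
theorem apply_mem_perp {X : Submodule F V} {g : V ≃ₗ[F] V} (hg : g ∈ UG B) (hX : g ∈ fixG X)
    {y : V} (hy : y ∈ perp B X) : g y ∈ perp B X := fun x hx => by
  rw [← hX x hx, hg, hy x hx]

theorem exists_extend_one (f : V →ₗ[F] V) {X : Submodule F V} {s : V} (hs : s ∉ X) (s' : V) :
    ∃ f' : V →ₗ[F] V, (∀ x ∈ X, f' x = f x) ∧ f' s = s' := by
  obtain ⟨g, hg, hgs⟩ := LinearMap.exists_extend_of_notMem (f.comp X.subtype) hs s'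
  exact ⟨g, fun x hx => LinearMap.congr_fun hg ⟨x, hx⟩, hgs⟩

namespace IsHerm

variable (H : IsHerm q B)
include H

theorem witt_extend_one {f : V →ₗ[F] V} {X : Submodule F V}
    (hinj : ∀ x ∈ X, f x = 0 → x = 0) (hiso : ∀ x ∈ X, ∀ y ∈ X, B (f x) (f y) = B x y)
    {s s' : V} (hs : s ∉ X) (hs' : s' ∉ X.map f) (h1 : ∀ x ∈ X, B s' (f x) = B s x)
    (h2 : B s' s' = B s s) :
    ∃ f' : V →ₗ[F] V, (∀ x ∈ X, f' x = f x) ∧ f' s = s' ∧
      (∀ x ∈ X ⊔ F ∙ s, f' x = 0 → x = 0) ∧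
      ∀ x ∈ X ⊔ F ∙ s, ∀ y ∈ X ⊔ F ∙ s, B (f' x) (f' y) = B x y := by
  obtain ⟨f', hf', hf's⟩ := exists_extend_one f hs s'
  refine ⟨f', hf', hf's, fun x hx h0 => ?_, fun x hx y hy => ?_⟩
  · obtain ⟨a, ha, b, hb, rfl⟩ := Submodule.mem_sup.1 hx
    obtain ⟨c, rfl⟩ := Submodule.mem_span_singleton.1 hb
    rw [map_add, map_smul, hf' a ha, hf's] at h0
    have hc : c = 0 := by
      by_contra hc
      apply hs'
      refine ⟨-(c⁻¹ • a), X.neg_mem (X.smul_mem _ ha), ?_⟩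
      rw [map_neg, map_smul, eq_neg_of_add_eq_zero_left h0, smul_neg, neg_neg, smul_smul,
        inv_mul_cancel₀ hc, one_smul]
    rw [hc, zero_smul, add_zero] at h0 ⊢
    exact hinj a ha h0
  · obtain ⟨a, ha, b, hb, rfl⟩ := Submodule.mem_sup.1 hx
    obtain ⟨c, rfl⟩ := Submodule.mem_span_singleton.1 hb
    obtain ⟨a', ha', b', hb', rfl⟩ := Submodule.mem_sup.1 hy
    obtain ⟨c', rfl⟩ := Submodule.mem_span_singleton.1 hb'
    have h3 : B (f a) s' = B a s := by rw [← H.symm, h1 a ha, H.symm]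
    simp only [map_add, LinearMap.add_apply, LinearMap.map_smulₛₗ, LinearMap.smul_apply,
      smul_eq_mul, RingHom.id_apply, hf' a ha, hf' a' ha', hf's, hiso a ha a' ha', h1 a' ha',
      h2, h3]

variable [FiniteDimensional F V]

theorem witt_step {f : V →ₗ[F] V} {X : Submodule F V}
    (hinj : ∀ x ∈ X, f x = 0 → x = 0) (hiso : ∀ x ∈ X, ∀ y ∈ X, B (f x) (f y) = B x y)
    (hX : finrank F X < finrank F V) :
    ∃ s s' : V, s ∉ X ∧ s' ∉ X.map f ∧ (∀ x ∈ X, B s' (f x) = B s x) ∧ B s' s' = B s s := by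
  by_cases hnd : Nd B X
  · have hnd' : Nd B (X.map f) := by
      rintro _ ⟨x, hx, rfl⟩ h
      rw [hnd x hx fun y hy => by rw [← hiso x hx y hy]; exact h _ ⟨y, hy, rfl⟩, map_zero]
    obtain ⟨e, -, he, hXe⟩ := H.exists_unit_perp H.nd_top hnd le_top (by simpa using hX)
    obtain ⟨e', -, he', hXe'⟩ := H.exists_unit_perp H.nd_top hnd' le_top
      (by simpa using (Submodule.finrank_map_le f X).trans_lt hX)
    refine ⟨e, e', fun h => ?_, fun h => ?_, fun x hx => ?_, by rw [he, he']⟩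
    · exact one_ne_zero (he.symm.trans (hXe e h))
    · exact one_ne_zero (he'.symm.trans (hXe' e' h))
    · rw [H.eq_zero_symm (hXe x hx), H.eq_zero_symm (hXe' _ ⟨x, hx, rfl⟩)]
  · simp only [Nd, not_forall] at hnd
    obtain ⟨r, hrX, hr, hr0⟩ := hnd
    have hfr : f r ∉ (⊥ : Submodule F V) := fun h => hr0 (hinj r hrX ((Submodule.mem_bot F).1 h))
    obtain ⟨l, -, hl⟩ := LinearMap.exists_extend_of_notMem (0 : (⊥ : Submodule F V) →ₗ[F] F) hfr 1
    obtain ⟨s', hs'⟩ := H.exists_rep l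
    obtain ⟨s, hs⟩ := H.exists_rep (l.comp f)
    have hrs : B r s = 1 := H.eq_one_symm (by rw [hs, LinearMap.comp_apply, hl])
    obtain ⟨a, ha⟩ := H.exists_add_smul_norm_eq (hr r hrX) (by rw [hrs]; exact one_ne_zero)
      (H.conj_self s')
    refine ⟨s + a • r, s', fun h => ?_, ?_, fun x hx => ?_, ha.symm⟩
    · have := hr _ h
      simp [hrs, hr r hrX] at this
    · rintro ⟨x, hx, rfl⟩
      have := hs' (f r)
      rw [hl, hiso x hx r hrX, H.eq_zero_symm (hr x hx)] at this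
      exact zero_ne_one this
    · simp [hs, hs', hr x hx]

/-- **Witt's theorem** for Hermitian forms. -/
theorem witt {f : V →ₗ[F] V} {X : Submodule F V}
    (hinj : ∀ x ∈ X, f x = 0 → x = 0) (hiso : ∀ x ∈ X, ∀ y ∈ X, B (f x) (f y) = B x y) :
    ∃ g ∈ UG B, ∀ x ∈ X, g x = f x := by
  induction hk : finrank F V - finrank F X generalizing f X with
  | zero =>
    have hX : X = ⊤ := Submodule.eq_top_of_finrank_eq (by
      have := X.finrank_le
      omega)
    subst hX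
    have hf : Function.Injective f := (injective_iff_map_eq_zero f).2 fun x => hinj x trivial
    exact ⟨LinearEquiv.ofInjectiveEndo f hf, fun x y => hiso x trivial y trivial, fun _ _ => rfl⟩
  | succ k ih =>
    obtain ⟨s, s', hs, hs', h1, h2⟩ := H.witt_step hinj hiso (by omega)
    obtain ⟨f', hf', -, hinj', hiso'⟩ := H.witt_extend_one hinj hiso hs hs' h1 h2
    obtain ⟨g, hg, hg'⟩ := ih hinj' hiso' (by
      rw [Submodule.finrank_sup_span_singleton hs]
      omega)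
    exact ⟨g, hg, fun x hx => by rw [hg' x (Submodule.mem_sup_left hx), hf' x hx]⟩

/-- Witt's theorem with one more vector prescribed. -/
theorem witt_one {f : V →ₗ[F] V} {X : Submodule F V}
    (hinj : ∀ x ∈ X, f x = 0 → x = 0) (hiso : ∀ x ∈ X, ∀ y ∈ X, B (f x) (f y) = B x y)
    {s s' : V} (hs : s ∉ X) (hs' : s' ∉ X.map f) (h1 : ∀ x ∈ X, B s' (f x) = B s x)
    (h2 : B s' s' = B s s) : ∃ g ∈ UG B, (∀ x ∈ X, g x = f x) ∧ g s = s' := by
  obtain ⟨f', hf', hf's, hinj', hiso'⟩ := H.witt_extend_one hinj hiso hs hs' h1 h2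
  obtain ⟨g, hg, hg'⟩ := H.witt hinj' hiso'
  exact ⟨g, hg, fun x hx => by rw [hg' x (Submodule.mem_sup_left hx), hf' x hx],
    by rw [hg' s (Submodule.mem_sup_right (Submodule.mem_span_singleton_self s)), hf's]⟩

/-- The pointwise stabiliser of `X` moves `s ∉ X` to any `s' ∉ X` with the same products. -/
theorem witt_fix {X : Submodule F V} {s s' : V} (hs : s ∉ X) (hs' : s' ∉ X)
    (h1 : ∀ x ∈ X, B s' x = B s x) (h2 : B s' s' = B s s) :
    ∃ g ∈ UG B, g ∈ fixG X ∧ g s = s' :=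
  H.witt_one (f := LinearMap.id) (fun _ _ h => h) (fun _ _ _ _ => rfl) hs (by simpa using hs')
    h1 h2

/-- Witt's theorem for subspaces. -/
theorem witt_equiv (X Y : Submodule F V) (φ : X ≃ₗ[F] Y)
    (hφ : ∀ x x' : X, B (φ x : V) (φ x' : V) = B (x : V) (x' : V)) :
    ∃ g ∈ UG B, ∀ x : X, g (x : V) = (φ x : V) := by
  obtain ⟨f, hf⟩ := LinearMap.exists_extend (Y.subtype.comp φ.toLinearMap)
  have hf' : ∀ x (hx : x ∈ X), f x = φ ⟨x, hx⟩ := fun x hx => LinearMap.congr_fun hf ⟨x, hx⟩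
  obtain ⟨g, hg, hg'⟩ := H.witt (f := f) (X := X) (fun x hx h => by
      rw [hf' x hx] at h
      have : (⟨x, hx⟩ : X) = 0 := φ.map_eq_zero_iff.1 (Subtype.ext h)
      exact congrArg Subtype.val this)
    (fun x hx y hy => by rw [hf' x hx, hf' y hy, hφ])
  exact ⟨g, hg, fun x => by rw [hg' x x.2, hf' x x.2]⟩

/-- Witt's theorem for linearly independent families with the same Gram matrix. -/
theorem witt_family {ι : Type*} {v w : ι → V} (hv : LinearIndependent F v)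
    (hw : LinearIndependent F w) (h : ∀ i j, B (w i) (w j) = B (v i) (v j)) :
    ∃ g ∈ UG B, ∀ i, g (v i) = w i := by
  let φ := hv.linearCombinationEquiv.symm ≪≫ₗ hw.linearCombinationEquiv
  have key : ∀ a b : ι →₀ F, B (Finsupp.linearCombination F w a) (Finsupp.linearCombination F w b)
      = B (Finsupp.linearCombination F v a) (Finsupp.linearCombination F v b) := fun a b => by
    simp [Finsupp.linearCombination_apply, Finsupp.sum, map_sum, h]
  obtain ⟨g, hg, hg'⟩ := H.witt_equiv _ _ φ (fun x y => by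
    obtain ⟨a, rfl⟩ := hv.linearCombinationEquiv.surjective x
    obtain ⟨b, rfl⟩ := hv.linearCombinationEquiv.surjective y
    simpa [φ] using key a b)
  refine ⟨g, hg, fun i => ?_⟩
  have := hg' (hv.linearCombinationEquiv (Finsupp.single i 1))
  simpa [φ] using this

end IsHerm

end CL.Herm
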