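import Cfsg.Agent.Base
import Cfsg.Agent.Unitary.Witt

/-!
# Transvections, quasi-reflections, Eichler transformations, diagonal elements
-/

set_option autoImplicit false

namespace CL.Herm

open Module

variable {F V : Type*} [Field F] [AddCommGroup V] [Module F V] {σ : F →+* F} {q : ℕ}

/-- `g` is the map `x ↦ x + c B(p, x) p` (transvection or quasi-reflection). -/
def IsTv (B : V →ₛₗ[σ] V →ₗ[F] F) (p : V) (c : F) (g : V ≃ₗ[F] V) : Prop :=
  ∀ x, g x = x + (c * B p x) • p

/-- `g` is the Eichler transformation `x ↦ x + B(p,x) w - B(w,x) p - c B(p,x) p`. -/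
structure IsEich (B : V →ₛₗ[σ] V →ₗ[F] F) (p w : V) (c : F) (g : V ≃ₗ[F] V) : Prop where
  iso : B p p = 0
  orth : B p w = 0
  tr : c + σ c = B w w
  eq : ∀ x, g x = x + B p x • w - B w x • p - (c * B p x) • p

/-- `g` multiplies the hyperbolic pair `p, s` by `a, b` and fixes its orthogonal complement. -/
def IsDiag (B : V →ₛₗ[σ] V →ₗ[F] F) (p s : V) (a b : F) (g : V ≃ₗ[F] V) : Prop :=
  ∀ x, g x = x + ((a - 1) * B s x) • p + ((b - 1) * B p x) • s

/-- The subgroup generated by the unitary transvections. -/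
def tvG (B : V →ₛₗ[σ] V →ₗ[F] F) : Subgroup (V ≃ₗ[F] V) :=
  Subgroup.closure {g | ∃ p c, B p p = 0 ∧ c + σ c = 0 ∧ IsTv B p c g}

variable {B : V →ₛₗ[σ] V →ₗ[F] F}

theorem exists_isTv {p : V} {c : F} (h : 1 + c * B p p ≠ 0) : ∃ g, IsTv B p c g :=
  ⟨LinearEquiv.dilatransvection (f := c • B p) (v := p) (by simpa using h), fun x => by
    simp [LinearEquiv.dilatransvection.apply]⟩

theorem exists_isTv' {p : V} (hp : B p p = 0) (c : F) : ∃ g, IsTv B p c g :=
  exists_isTv (by simp [hp])

namespace IsTv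

variable {p : V} {c c' : F} {g g' : V ≃ₗ[F] V}

theorem unique (h : IsTv B p c g) (h' : IsTv B p c g') : g = g' :=
  LinearEquiv.ext fun x => by rw [h, h']

theorem coe_eq (h : IsTv B p c g) : (g : V →ₗ[F] V) = LinearMap.transvection (c • B p) p :=
  LinearMap.ext fun x => by simp [h x, LinearMap.transvection.apply]

theorem det [FiniteDimensional F V] (h : IsTv B p c g) :
    LinearMap.det (g : V →ₗ[F] V) = 1 + c * B p p := by
  simp [h.coe_eq]

theorem mem_UG (H : IsHerm q B) (h : IsTv B p c g) (hc : c + σ c + c * σ c * B p p = 0) :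
    g ∈ UG B := fun x y => by
  simp only [h x, h y, map_add, LinearMap.add_apply, LinearMap.map_smulₛₗ, LinearMap.smul_apply,
    smul_eq_mul, RingHom.id_apply, map_mul, H.symm]
  linear_combination B x p * B p y * hc

theorem mem_SUG [FiniteDimensional F V] (H : IsHerm q B) (h : IsTv B p c g) (hp : B p p = 0)
    (hc : c + σ c = 0) : g ∈ SUG B :=
  CL.Herm.mem_SUG.2 ⟨h.mem_UG H (by rw [hc, hp]; simp), by rw [h.det, hp]; simp⟩

theorem mem_tvG (h : IsTv B p c g) (hp : B p p = 0) (hc : c + σ c = 0) : g ∈ tvG B :=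
  Subgroup.subset_closure ⟨p, c, hp, hc, h⟩

theorem conj (h : IsTv B p c g) {k : V ≃ₗ[F] V} (hk : k ∈ UG B) :
    IsTv B (k p) c (k * g * k⁻¹) := fun x => by
  simp [h (k.symm x), UG_apply_left hk]

theorem of_smul {a : F} (h : IsTv B (a • p) c g) : IsTv B p (c * (a * σ a)) g := fun x => by
  rw [h x]
  simp only [LinearMap.map_smulₛₗ, LinearMap.smul_apply, smul_eq_mul, smul_smul]
  congr 2
  ring

theorem smul {a : F} (h : IsTv B p (c * (a * σ a)) g) : IsTv B (a • p) c g := fun x => by
  rw [h x]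
  simp only [LinearMap.map_smulₛₗ, LinearMap.smul_apply, smul_eq_mul, smul_smul]
  congr 2
  ring

theorem mul (hp : B p p = 0) (h : IsTv B p c g) (h' : IsTv B p c' g') :
    IsTv B p (c + c') (g * g') := fun x => by
  rw [LinearEquiv.mul_apply, h, h']
  simp only [map_add, map_smul, hp, smul_eq_mul]
  module

theorem one (p : V) : IsTv B p 0 1 := fun x => by simp

theorem one' (c : F) : IsTv B 0 c 1 := fun x => by simp

theorem inv (hp : B p p = 0) (h : IsTv B p c g) : IsTv B p (-c) g⁻¹ := by
  obtain ⟨g', hg'⟩ := exists_isTv' hp (-c)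
  have := (hg'.mul hp h).unique (by simpa using one p)
  rwa [← eq_inv_of_mul_eq_one_left this]

theorem apply_of_orth (h : IsTv B p c g) {x : V} (hx : B p x = 0) : g x = x := by
  simp [h x, hx]

end IsTv

theorem conj_mem_tvG {k t : V ≃ₗ[F] V} (hk : k ∈ UG B) (ht : t ∈ tvG B) : k * t * k⁻¹ ∈ tvG B := by
  induction ht using Subgroup.closure_induction with
  | mem t ht =>
    obtain ⟨p, c, hp, hc, ht⟩ := ht
    exact (ht.conj hk).mem_tvG (by rw [hk, hp]) hc
  | one => simp
  | mul a b _ _ ha hb =>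
    have : k * (a * b) * k⁻¹ = (k * a * k⁻¹) * (k * b * k⁻¹) := by group
    rw [this]
    exact Subgroup.mul_mem _ ha hb
  | inv a _ ha =>
    have : k * a⁻¹ * k⁻¹ = (k * a * k⁻¹)⁻¹ := by group
    rw [this]
    exact Subgroup.inv_mem _ ha

theorem IsHerm.tvG_le_SUG [FiniteDimensional F V] (H : IsHerm q B) : tvG B ≤ SUG B :=
  (Subgroup.closure_le _).2 fun _ ⟨_, _, hp, hc, h⟩ => h.mem_SUG H hp hc

theorem IsHerm.exists_isEich (H : IsHerm q B) {p w : V} {c : F} (hp : B p p = 0) (hw : B p w = 0)
    (hc : c + σ c = B w w) : ∃ g, IsEich B p w c g := by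
  have hw' := H.eq_zero_symm hw
  refine ⟨LinearEquiv.transvection (f := B p) (v := w - c • p) (by simp [hp, hw]) *
    LinearEquiv.transvection (f := -B w) (v := p) (by simp [hw']), hp, hw, hc, fun x => ?_⟩
  simp only [LinearEquiv.mul_apply, LinearEquiv.transvection.apply, map_add, map_smul, hp,
    LinearMap.neg_apply]
  module

theorem IsHerm.exists_isEich' (H : IsHerm q B) {p w : V} (hp : B p p = 0) (hw : B p w = 0) :
    ∃ c g, IsEich B p w c g := by
  obtain ⟨c, hc⟩ := H.conj.exists_trace (H.conj_self w)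
  exact ⟨c, H.exists_isEich hp hw hc⟩

namespace IsEich

variable {p w w' : V} {c c' : F} {g g' : V ≃ₗ[F] V}

theorem unique (h : IsEich B p w c g) (h' : IsEich B p w c g') : g = g' :=
  LinearEquiv.ext fun x => by rw [h.eq, h'.eq]

theorem det [FiniteDimensional F V] (H : IsHerm q B) (h : IsEich B p w c g) :
    LinearMap.det (g : V →ₗ[F] V) = 1 := by
  have : (g : V →ₗ[F] V) = LinearMap.transvection (B p) (w - c • p) ∘ₗ
      LinearMap.transvection (-B w) p := LinearMap.ext fun x => by
    simp only [LinearEquiv.coe_coe, h.eq, LinearMap.comp_apply, LinearMap.transvection.apply,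
      map_add, map_smul, h.iso, LinearMap.neg_apply]
    module
  rw [this, LinearMap.det_comp]
  simp [h.iso, h.orth, H.eq_zero_symm h.orth]

theorem mem_UG (H : IsHerm q B) (h : IsEich B p w c g) : g ∈ UG B := fun x y => by
  simp only [h.eq x, h.eq y, map_add, map_sub, LinearMap.add_apply, LinearMap.sub_apply,
    LinearMap.map_smulₛₗ, LinearMap.smul_apply, smul_eq_mul, RingHom.id_apply, map_mul, H.symm,
    h.iso, h.orth, H.eq_zero_symm h.orth, ← h.tr]
  ring

theorem mem_SUG [FiniteDimensional F V] (H : IsHerm q B) (h : IsEich B p w c g) : g ∈ SUG B :=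
  CL.Herm.mem_SUG.2 ⟨h.mem_UG H, h.det H⟩

theorem mul (H : IsHerm q B) (h : IsEich B p w c g) (h' : IsEich B p w' c' g') :
    IsEich B p (w + w') (c + c' + B w w') (g * g') where
  iso := h.iso
  orth := by simp [h.orth, h'.orth]
  tr := by
    simp only [map_add, LinearMap.add_apply, H.symm, ← h.tr, ← h'.tr]
    ring
  eq := fun x => by
    rw [LinearEquiv.mul_apply, h.eq, h'.eq]
    simp only [map_add, map_sub, map_smul, h.iso, h'.orth, H.eq_zero_symm h.orth, smul_eq_mul,
      LinearMap.add_apply]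
    module

theorem one (hp : B p p = 0) : IsEich B p 0 0 1 := ⟨hp, by simp, by simp, fun x => by simp⟩

theorem inv (H : IsHerm q B) (h : IsEich B p w c g) : IsEich B p (-w) (σ c) g⁻¹ := by
  obtain ⟨g', hg'⟩ := H.exists_isEich (p := p) (w := -w) (c := σ c) h.iso (by simp [h.orth])
    (by simp [H.conj.invol, ← h.tr, add_comm])
  have h1 := hg'.mul H h
  have h2 : σ c + c + B (-w) w = 0 := by
    rw [map_neg, LinearMap.neg_apply, ← h.tr]
    ring
  rw [h2, neg_add_cancel] at h1
  rwa [← eq_inv_of_mul_eq_one_left (h1.unique (one h.iso))]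

theorem conj (h : IsEich B p w c g) {k : V ≃ₗ[F] V} (hk : k ∈ UG B) :
    IsEich B (k p) (k w) c (k * g * k⁻¹) where
  iso := by rw [hk, h.iso]
  orth := by rw [hk, h.orth]
  tr := by rw [hk, h.tr]
  eq := fun x => by simp [h.eq (k.symm x), UG_apply_left hk]

theorem of_smul (H : IsHerm q B) {a : F} (ha : a ≠ 0) (h : IsEich B (a • p) w c g) :
    IsEich B p (σ a • w) (c * (a * σ a)) g where
  iso := by simpa [ha] using h.iso
  orth := by simpa [ha] using h.orth
  tr := by
    simp only [map_mul, H.conj.invol, LinearMap.map_smulₛₗ, LinearMap.smul_apply, smul_eq_mul,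
      RingHom.id_apply, ← h.tr]
    ring
  eq := fun x => by
    rw [h.eq]
    simp only [LinearMap.map_smulₛₗ, LinearMap.smul_apply, smul_eq_mul, H.conj.invol]
    module

theorem isTv (h : IsEich B p 0 c g) : IsTv B p (-c) g := fun x => by
  rw [h.eq]
  simp [sub_eq_add_neg]

theorem apply_self (H : IsHerm q B) (h : IsEich B p w c g) : g p = p := by
  simp [h.eq, h.iso, H.eq_zero_symm h.orth]

theorem apply_of_orth (h : IsEich B p w c g) {x : V} (hx : B p x = 0) (hx' : B w x = 0) :
    g x = x := by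
  simp [h.eq, hx, hx']

theorem mem_fixG_perp (h : IsEich B p w c g) {W : Submodule F V} (hp : p ∈ W) (hw : w ∈ W) :
    g ∈ fixG (perp B W) := fun _ hx => h.apply_of_orth (hx p hp) (hx w hw)

/-- The commutator of two Eichler transformations with the same centre is a transvection. -/
theorem commutator (H : IsHerm q B) (h : IsEich B p w c g) (h' : IsEich B p w' c' g') :
    IsTv B p (B w' w - B w w') (g * g' * g⁻¹ * g'⁻¹) := by
  have h1 := ((h.mul H h').mul H (h.inv H)).mul H (h'.inv H)
  have e1 : w + w' + -w + -w' = 0 := by abel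
  rw [e1] at h1
  have h2 := h1.isTv
  have e2 : -(c + c' + B w w' + σ c + B (w + w') (-w) + σ c' + B (w + w' + -w) (-w')) =
      B w' w - B w w' := by
    simp only [map_add, map_neg, LinearMap.add_apply, LinearMap.neg_apply, ← h.tr, ← h'.tr]
    ring
  rwa [e2] at h2

end IsEich

theorem IsTv.isEich {p : V} {c : F} {g : V ≃ₗ[F] V} (h : IsTv B p c g) (hp : B p p = 0)
    (hc : c + σ c = 0) : IsEich B p 0 (-c) g where
  iso := hp
  orth := by simp
  tr := by
    simp only [map_neg, map_zero]
    linear_combination -hc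
  eq := fun x => by simp [h x]

/-- The Eichler group at `p` is transitive on vectors with given norm and product with `p`. -/
theorem IsHerm.exists_isEich_apply (H : IsHerm q B) {p u v : V} (hp : B p p = 0)
    (h0 : B p u ≠ 0) (h1 : B p v = B p u) (h2 : B v v = B u u) :
    ∃ c g, IsEich B p ((B p u)⁻¹ • (v - u)) c g ∧ g u = v := by
  have h0' : B u p ≠ 0 := fun h => h0 (H.eq_zero_symm h)
  obtain ⟨g, hg⟩ := H.exists_isEich (p := p) (w := (B p u)⁻¹ • (v - u))
    (c := (B u u - B v u) / (B p u * B u p)) hp (by simp [h1]) (by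
      simp only [map_div₀, map_sub, map_mul, H.symm, LinearMap.map_smulₛₗ, LinearMap.smul_apply,
        smul_eq_mul, RingHom.id_apply, LinearMap.sub_apply, map_inv₀, h2]
      field_simp
      ring)
  refine ⟨_, g, hg, ?_⟩
  rw [hg.eq]
  simp only [map_sub, H.symm, LinearMap.map_smulₛₗ, LinearMap.smul_apply,
    smul_eq_mul, LinearMap.sub_apply, map_inv₀, smul_smul, mul_inv_cancel₀ h0, one_smul]
  have : (B u u - B v u) / (B p u * B u p) * B p u = -((B u p)⁻¹ * (B v u - B u u)) := by
    field_simp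
    ring
  rw [this]
  module

namespace IsDiag

variable {p s : V} {a b : F} {g g' : V ≃ₗ[F] V}

theorem unique (h : IsDiag B p s a b g) (h' : IsDiag B p s a b g') : g = g' :=
  LinearEquiv.ext fun x => by rw [h, h']

theorem det [FiniteDimensional F V] (H : IsHerm q B) (hs : B s s = 0)
    (hps : B p s = 1) (h : IsDiag B p s a b g) : LinearMap.det (g : V →ₗ[F] V) = a * b := by
  have : (g : V →ₗ[F] V) = LinearMap.transvection ((a - 1) • B s) p ∘ₗ
      LinearMap.transvection ((b - 1) • B p) s := LinearMap.ext fun x => by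
    simp only [LinearEquiv.coe_coe, h x, LinearMap.comp_apply, LinearMap.transvection.apply,
      map_add, map_smul, hs, LinearMap.smul_apply, smul_eq_mul]
    module
  rw [this, LinearMap.det_comp]
  simp [hps, H.eq_one_symm hps]

theorem mem_UG (H : IsHerm q B) (hp : B p p = 0) (hs : B s s = 0)
    (hps : B p s = 1) (h : IsDiag B p s a b g) (hab : σ a * b = 1) : g ∈ UG B := fun x y => by
  have hab' : σ b * a = 1 := by
    have := congrArg σ hab
    rwa [map_mul, H.conj.invol, map_one, mul_comm] at this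
  simp only [h x, h y, map_add, map_sub, LinearMap.add_apply, map_one,
    LinearMap.map_smulₛₗ, LinearMap.smul_apply, smul_eq_mul, RingHom.id_apply, map_mul, H.symm,
    hp, hs, hps, H.eq_one_symm hps]
  linear_combination B x s * B p y * hab + B x p * B s y * hab'

theorem apply_left (H : IsHerm q B) (hp : B p p = 0) (hps : B p s = 1) (h : IsDiag B p s a b g) :
    g p = a • p := by
  rw [h p, hp, H.eq_one_symm hps]
  module

theorem apply_right (hs : B s s = 0) (hps : B p s = 1) (h : IsDiag B p s a b g) :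
    g s = b • s := by
  rw [h s, hs, hps]
  module

theorem apply_of_orth (h : IsDiag B p s a b g) {x : V} (hx : B p x = 0) (hx' : B s x = 0) :
    g x = x := by
  simp [h x, hx, hx']

end IsDiag

theorem IsHerm.exists_isDiag (H : IsHerm q B) {p s : V} (hs : B s s = 0)
    (hps : B p s = 1) {a b : F} (ha : a ≠ 0) (hb : b ≠ 0) : ∃ g, IsDiag B p s a b g := by
  refine ⟨LinearEquiv.dilatransvection (f := (a - 1) • B s) (v := p)
      (by simpa [H.eq_one_symm hps] using ha) *
    LinearEquiv.dilatransvection (f := (b - 1) • B p) (v := s) (by simpa [hps] using hb),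
    fun x => ?_⟩
  simp only [LinearEquiv.mul_apply, LinearEquiv.dilatransvection.apply, map_add, map_smul, hs,
    LinearMap.smul_apply, smul_eq_mul]
  module

theorem IsHerm.isDiag_of_apply (H : IsHerm q B) {p s : V} (hp : B p p = 0) (hs : B s s = 0)
    (hps : B p s = 1) {a b : F} {g : V ≃ₗ[F] V} (h1 : g p = a • p) (h2 : g s = b • s)
    (h3 : ∀ x, B p x = 0 → B s x = 0 → g x = x) : IsDiag B p s a b g := fun x => by
  have := h3 (x - B s x • p - B p x • s) (by simp [hp, hps]) (by simp [hs, H.eq_one_symm hps])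
  rw [map_sub, map_sub, map_smul, map_smul, h1, h2] at this
  linear_combination (norm := module) this

theorem isTv_of_apply {e : V} (he : B e e = 1) {a : F} {g : V ≃ₗ[F] V} (h1 : g e = a • e)
    (h2 : ∀ x, B e x = 0 → g x = x) : IsTv B e (a - 1) g := fun x => by
  have := h2 (x - B e x • e) (by simp [he])
  rw [map_sub, map_smul, h1] at this
  linear_combination (norm := module) this

/-- The diagonal elements over the fixed field are products of transvections. -/
theorem IsDiag.mem_tvG (H : IsHerm q B) {p s : V} (hp : B p p = 0) (hs : B s s = 0)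
    (hps : B p s = 1) {a : F} (ha : a ≠ 0) (haσ : σ a = a) {g : V ≃ₗ[F] V}
    (h : IsDiag B p s a a⁻¹ g) : g ∈ tvG B := by
  have hsp := H.eq_one_symm hps
  have key : ∀ c : F, c ≠ 0 → σ c = -c → ∃ w ∈ tvG B, ∀ x,
      w x = x + (c * B p x - B s x) • p - (c⁻¹ * B s x + B p x) • s := by
    intro c hc hcσ
    obtain ⟨t, ht⟩ := exists_isTv' hp c
    obtain ⟨u, hu⟩ := exists_isTv' hs (-c⁻¹)
    have ht' := ht.mem_tvG hp (by rw [hcσ, add_neg_cancel])
    have hu' := hu.mem_tvG hs (by rw [map_neg, map_inv₀, hcσ, inv_neg, neg_neg, neg_add_cancel])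
    refine ⟨t * u * t, Subgroup.mul_mem _ (Subgroup.mul_mem _ ht' hu') ht', fun x => ?_⟩
    rw [LinearEquiv.mul_apply, LinearEquiv.mul_apply, ht, hu, ht]
    simp only [map_add, map_smul, hp, hps, hsp, smul_eq_mul]
    match_scalars <;> field_simp <;> ring
  obtain ⟨δ, hδ0, hδ⟩ := H.conj.exists_skew
  obtain ⟨w1, hw1, h1⟩ := key (a * δ) (mul_ne_zero ha hδ0) (by rw [map_mul, haσ, hδ, mul_neg])
  obtain ⟨w2, hw2, h2⟩ := key (-δ) (neg_ne_zero.2 hδ0) (by rw [map_neg, hδ])
  have : g = w1 * w2 := LinearEquiv.ext fun x => by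
    rw [LinearEquiv.mul_apply, h1, h2, h]
    simp only [map_add, map_sub, map_smul, hp, hs, hps, hsp, smul_eq_mul]
    match_scalars <;> field_simp <;> ring
  rw [this]
  exact Subgroup.mul_mem _ hw1 hw2

end CL.Herm
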