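import Cfsg.Agent.Base
import Cfsg.Agent.Unitary.Eichler

/-!
# The special unitary group is generated by transvections (except `SU_3(2)`)
-/

set_option autoImplicit false

namespace CL.Herm

open Module

variable {F V : Type*} [Field F] [AddCommGroup V] [Module F V] {σ : F →+* F} {q : ℕ}
  {B : V →ₛₗ[σ] V →ₗ[F] F}

/-- The subgroup generated by the Eichler transformations supported on `W`. -/
def eichG (B : V →ₛₗ[σ] V →ₗ[F] F) (W : Submodule F V) : Subgroup (V ≃ₗ[F] V) :=
  Subgroup.closure {g | ∃ p ∈ W, ∃ w ∈ W, ∃ c, IsEich B p w c g}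

theorem IsEich.mem_eichG {W : Submodule F V} {p w : V} {c : F} {g : V ≃ₗ[F] V}
    (h : IsEich B p w c g) (hp : p ∈ W) (hw : w ∈ W) : g ∈ eichG B W :=
  Subgroup.subset_closure ⟨p, hp, w, hw, c, h⟩

theorem eichG_mono {W W' : Submodule F V} (h : W ≤ W') : eichG B W ≤ eichG B W' :=
  Subgroup.closure_mono fun _ ⟨p, hp, w, hw, c, hg⟩ => ⟨p, h hp, w, h hw, c, hg⟩

theorem eichG_le_fixG (W : Submodule F V) : eichG B W ≤ fixG (perp B W) :=
  (Subgroup.closure_le _).2 fun _ ⟨_, hp, _, hw, _, hg⟩ => hg.mem_fixG_perp hp hw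

theorem tvG_le_eichG : tvG B ≤ eichG B ⊤ :=
  (Subgroup.closure_le _).2 fun _ ⟨_, _, hp, hc, h⟩ => (h.isEich hp hc).mem_eichG trivial trivial

namespace IsHerm

variable (H : IsHerm q B)
include H

theorem isEich_mem_tvG_of_mem {p w : V} {c c' : F} {g g' : V ≃ₗ[F] V} (h : IsEich B p w c g)
    (h' : IsEich B p w c' g') (hg : g ∈ tvG B) : g' ∈ tvG B := by
  have htr : (c - c') + σ (c - c') = 0 := by
    rw [map_sub]
    linear_combination h.tr - h'.tr
  obtain ⟨t, ht⟩ := exists_isTv' h.iso (c - c')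
  have h1 := h.mul H (ht.isEich h.iso htr)
  rw [add_zero, map_zero, add_zero, neg_sub, add_sub_cancel] at h1
  rw [h'.unique h1]
  exact Subgroup.mul_mem _ hg (ht.mem_tvG h.iso htr)

theorem isEich_mem_tvG_of_isotropic {p w : V} {c : F} {g : V ≃ₗ[F] V} (h : IsEich B p w c g)
    (hw : B w w = 0) : g ∈ tvG B := by
  obtain ⟨δ, hδ0, hδ⟩ := H.conj.exists_skew
  have hp := h.iso
  have hpw := h.orth
  have hwp := H.eq_zero_symm h.orth
  have hu : B (δ⁻¹ • w) (δ⁻¹ • w) = 0 := by simp [hw]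
  have hpu : B (p + δ⁻¹ • w) (p + δ⁻¹ • w) = 0 := by simp [hw, hp, hpw, hwp]
  obtain ⟨t1, h1⟩ := exists_isTv' hp (-δ)
  obtain ⟨t2, h2⟩ := exists_isTv' hu (-δ)
  obtain ⟨t3, h3⟩ := exists_isTv' hpu δ
  have hE : IsEich B p w 0 (t1 * t2 * t3) := ⟨hp, hpw, by simp [hw], fun x => by
    rw [LinearEquiv.mul_apply, LinearEquiv.mul_apply, h1, h2, h3]
    simp only [map_add, LinearMap.add_apply, LinearMap.map_smulₛₗ, LinearMap.smul_apply,
      smul_eq_mul, RingHom.id_apply, hp, hpw, hwp, hw, map_inv₀, hδ]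
    match_scalars <;> field_simp <;> ring⟩
  refine H.isEich_mem_tvG_of_mem hE h (Subgroup.mul_mem _ (Subgroup.mul_mem _ ?_ ?_) ?_)
  · exact h1.mem_tvG hp (by simp [hδ])
  · exact h2.mem_tvG hu (by simp [hδ])
  · exact h3.mem_tvG hpu (by simp [hδ])

variable [FiniteDimensional F V]

theorem eichG_le_SUG (W : Submodule F V) : eichG B W ≤ SUG B :=
  (Subgroup.closure_le _).2 fun _ ⟨_, _, _, _, _, hg⟩ => hg.mem_SUG H

/-- In a non-degenerate subspace of dimension at least two every vector is a sum of three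
isotropic vectors. -/
theorem exists_eq_add_isotropic {W : Submodule F V} (hW : Nd B W) (h2 : 2 ≤ finrank F W) {w : V}
    (hw : w ∈ W) : ∃ a ∈ W, ∃ b ∈ W, ∃ c ∈ W, B a a = 0 ∧ B b b = 0 ∧ B c c = 0 ∧ w = a + b + c := by
  obtain ⟨r, hrW, hr0, hr⟩ := H.exists_isotropic hW h2
  obtain ⟨t, htW, ht, hrt⟩ := H.exists_partner' hW hrW hr0 hr
  obtain ⟨a, ha⟩ := H.exists_add_smul_norm_eq (s := w + (1 - B r w) • t) hr (by simp [hrt])
    (map_zero σ)
  refine ⟨_, W.add_mem (W.add_mem hw (W.smul_mem _ htW)) (W.smul_mem a hrW), -(a • r),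
    W.neg_mem (W.smul_mem a hrW), -((1 - B r w) • t), W.neg_mem (W.smul_mem _ htW), ha,
    by simp [hr], by simp [ht], by abel⟩

/-- Eichler transformations are products of transvections, except in `SU_3(2)`. -/
theorem isEich_mem_tvG (hn : ¬ (finrank F V = 3 ∧ q = 2)) {p w : V} {c : F} {g : V ≃ₗ[F] V}
    (h : IsEich B p w c g) : g ∈ tvG B := by
  have hp := h.iso
  by_cases hp0 : p = 0
  · have : g = 1 := LinearEquiv.ext fun x => by simp [h.eq, hp0]
    rw [this]
    exact one_mem _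
  let A : V → Prop := fun w => ∃ c g, IsEich B p w c g ∧ g ∈ tvG B
  have hadd : ∀ w w', A w → A w' → A (w + w') := fun w w' ⟨_, _, h1, h2⟩ ⟨_, _, h3, h4⟩ =>
    ⟨_, _, h1.mul H h3, mul_mem h2 h4⟩
  have hiso : ∀ w, B p w = 0 → B w w = 0 → A w := fun w h1 h2 => by
    obtain ⟨c, g, hg⟩ := H.exists_isEich' hp h1
    exact ⟨c, g, hg, H.isEich_mem_tvG_of_isotropic hg h2⟩
  suffices hA : A w by
    obtain ⟨c', g', h1, h2⟩ := hA
    exact H.isEich_mem_tvG_of_mem h1 h h2
  obtain ⟨s, -, hs, hps⟩ := H.exists_partner' H.nd_top trivial hp0 hp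
  have hsp := H.eq_one_symm hps
  have hps0 : B p s ≠ 0 := by rw [hps]; exact one_ne_zero
  have key : ∀ w0, B p w0 = 0 → B s w0 = 0 → A w0 := by
    intro w0 h1 h2
    by_cases hq : q = 2
    · have hW := H.nd_perp (H.nd_span_pair hp hps0)
      have hdim := H.finrank_perp_add (Submodule.span F {p, s})
      rw [finrank_span_pair hp hps0] at hdim
      have hw0 : w0 ∈ perp B (Submodule.span F {p, s}) := mem_perp_span_pair.2 ⟨h1, h2⟩
      by_cases h0 : finrank F (perp B (Submodule.span F {p, s})) = 0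
      · rw [Submodule.finrank_eq_zero.1 h0, Submodule.mem_bot] at hw0
        rw [hw0]
        exact hiso 0 (by simp) (by simp)
      · obtain ⟨a, ha, b, hb, c, hc, ha', hb', hc', rfl⟩ := H.exists_eq_add_isotropic hW
          (by omega) hw0
        exact hadd _ _ (hadd _ _ (hiso a (mem_perp_span_pair.1 ha).1 ha')
          (hiso b (mem_perp_span_pair.1 hb).1 hb')) (hiso c (mem_perp_span_pair.1 hc).1 hc')
    · obtain ⟨a, haσ, ha0, ha1⟩ := H.conj.exists_fixed_ne hq
      obtain ⟨d, hd⟩ := H.exists_isDiag hs hps ha0 (inv_ne_zero ha0)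
      have hdT := hd.mem_tvG H hp hs hps ha0 haσ
      have hdU := hd.mem_UG H hp hs hps (by rw [haσ, mul_inv_cancel₀ ha0])
      obtain ⟨c, e, he⟩ := H.exists_isEich' (w := (a - 1)⁻¹ • w0) hp (by simp [h1])
      have h3 := he.conj hdU
      rw [hd.apply_left H hp hps, hd.apply_of_orth (by simp [h1]) (by simp [h2])] at h3
      have h4 := (h3.of_smul H ha0).mul H (he.inv H)
      have h5 : σ a • (a - 1)⁻¹ • w0 + -((a - 1)⁻¹ • w0) = w0 := by
        have := sub_ne_zero.2 ha1
        rw [haσ]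
        match_scalars
        field_simp
        ring
      rw [h5] at h4
      refine ⟨_, _, h4, ?_⟩
      have : d * e * d⁻¹ * e⁻¹ = d * (e * d⁻¹ * e⁻¹) := by group
      rw [this]
      exact mul_mem hdT (conj_mem_tvG (he.mem_UG H) (inv_mem hdT))
  have := hadd _ _ (key (w - B s w • p) (by simp [hp, h.orth]) (by simp [hsp]))
    (hiso (B s w • p) (by simp [hp]) (by simp [hp]))
  rwa [sub_add_cancel] at this

theorem eichG_le_tvG (hn : ¬ (finrank F V = 3 ∧ q = 2)) (W : Submodule F V) :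
    eichG B W ≤ tvG B :=
  (Subgroup.closure_le _).2 fun _ ⟨_, _, _, _, _, hg⟩ => H.isEich_mem_tvG hn hg

omit [FiniteDimensional F V] in
theorem exists_eichG_apply {W : Submodule F V} {p u v : V} (hpW : p ∈ W) (hu : u ∈ W) (hv : v ∈ W)
    (hp : B p p = 0) (h0 : B p u ≠ 0) (h1 : B p v = B p u) (h2 : B v v = B u u) :
    ∃ g ∈ eichG B W, g p = p ∧ g u = v := by
  obtain ⟨c, g, hg, hgu⟩ := H.exists_isEich_apply hp h0 h1 h2
  exact ⟨g, hg.mem_eichG hpW (W.smul_mem _ (W.sub_mem hv hu)), hg.apply_self H, hgu⟩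

theorem exists_eichG_apply_of_ne {W : Submodule F V} (hW : Nd B W) (h3 : 3 ≤ finrank F W)
    {p p' : V} (hpW : p ∈ W) (hpW' : p' ∈ W) (hp : B p p = 0) (hp' : B p' p' = 0)
    (h0 : B p p' ≠ 0) : ∃ g ∈ eichG B W, g p = p' := by
  obtain ⟨e, heW, he, hpe, hpe'⟩ := H.exists_unit_perp_pair hW h3 hpW hpW' hp h0
  have hep := H.eq_zero_symm hpe
  have hep' := H.eq_zero_symm hpe'
  obtain ⟨l, hl⟩ := H.conj.exists_norm (c := -(B p p' * B p' p * (B p p' + B p' p))) (by
    simp only [map_neg, map_mul, map_add, H.symm]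
    ring)
  have h0' : B p' p ≠ 0 := fun h => h0 (H.eq_zero_symm h)
  obtain ⟨g, hg, -, hg'⟩ := H.exists_eichG_apply (p := B p p' • p + B p' p • p' + l • e)
    (W.add_mem (W.add_mem (W.smul_mem _ hpW) (W.smul_mem _ hpW')) (W.smul_mem _ heW)) hpW hpW'
    (by
      simp only [map_add, LinearMap.add_apply, LinearMap.map_smulₛₗ, LinearMap.smul_apply,
        smul_eq_mul, RingHom.id_apply, hp, hp', he, hpe, hpe', hep, hep', H.symm]
      linear_combination hl)
    (by simp [hp, hep, H.symm, h0, h0'])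
    (by simp [hp, hp', hep, hep', H.symm, mul_comm]) (by rw [hp, hp'])
  exact ⟨g, hg, hg'⟩

/-- Two orthogonal non-zero isotropic vectors have a common non-orthogonal isotropic vector. -/
theorem exists_isotropic_not_orth {W : Submodule F V} (hW : Nd B W) {p p' : V} (hpW : p ∈ W)
    (hpW' : p' ∈ W) (hp0 : p ≠ 0) (hp0' : p' ≠ 0) (hp : B p p = 0)
    (h0 : B p' p = 0) : ∃ s ∈ W, B s s = 0 ∧ B p s ≠ 0 ∧ B p' s ≠ 0 := by
  by_cases h : p ∈ F ∙ (p - p')
  · obtain ⟨k, hk⟩ := Submodule.mem_span_singleton.1 h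
    obtain ⟨s, hsW, hs, hps⟩ := H.exists_partner' hW hpW hp0 hp
    refine ⟨s, hsW, hs, by rw [hps]; exact one_ne_zero, fun h' => hp0' ?_⟩
    have h1 := congrArg (fun x => B x s) hk
    simp only [LinearMap.map_smulₛₗ, map_sub, LinearMap.smul_apply, LinearMap.sub_apply, hps, h',
      smul_eq_mul, sub_zero, mul_one] at h1
    have hk1 : k = 1 := H.conj.bijective.1 (by rw [h1, map_one])
    rw [hk1, one_smul] at hk
    simpa using hk
  · obtain ⟨s, hsW, hs, hps, hX⟩ := H.exists_partner hW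
      ((Submodule.span_singleton_le_iff_mem _ _).2 (W.sub_mem hpW hpW')) hpW h hp (fun x hx => by
        obtain ⟨k, rfl⟩ := Submodule.mem_span_singleton.1 hx
        simp [hp, h0])
    have := hX _ (Submodule.mem_span_singleton_self _)
    rw [map_sub, LinearMap.sub_apply, hps, sub_eq_zero] at this
    exact ⟨s, hsW, hs, by rw [hps]; exact one_ne_zero, by rw [← this]; exact one_ne_zero⟩

/-- Transitivity on non-zero isotropic vectors in dimension at least three. -/
theorem exists_eichG_apply_isotropic {W : Submodule F V} (hW : Nd B W) (h3 : 3 ≤ finrank F W)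
    {p p' : V} (hpW : p ∈ W) (hpW' : p' ∈ W) (hp0 : p ≠ 0) (hp0' : p' ≠ 0) (hp : B p p = 0)
    (hp' : B p' p' = 0) : ∃ g ∈ eichG B W, g p = p' := by
  by_cases h0 : B p p' = 0
  · obtain ⟨s, hsW, hs, h1, h2⟩ := H.exists_isotropic_not_orth hW hpW hpW' hp0 hp0' hp
      (H.eq_zero_symm h0)
    obtain ⟨g, hg, hg'⟩ := H.exists_eichG_apply_of_ne hW h3 hpW hsW hp hs h1
    obtain ⟨k, hk, hk'⟩ := H.exists_eichG_apply_of_ne hW h3 hsW hpW' hs hp'
      (fun h => h2 (H.eq_zero_symm h))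
    exact ⟨k * g, mul_mem hk hg, by rw [LinearEquiv.mul_apply, hg', hk']⟩
  · exact H.exists_eichG_apply_of_ne hW h3 hpW hpW' hp hp' h0

/-- Transitivity on hyperbolic pairs in dimension at least three. -/
theorem exists_eichG_apply_pair {W : Submodule F V} (hW : Nd B W) (h3 : 3 ≤ finrank F W)
    {p s p' s' : V} (hpW : p ∈ W) (hsW : s ∈ W) (hpW' : p' ∈ W) (hsW' : s' ∈ W)
    (hp : B p p = 0) (hp' : B p' p' = 0) (hs : B s' s' = B s s) (hps : B p s ≠ 0)
    (hps' : B p' s' = B p s) : ∃ g ∈ eichG B W, g p = p' ∧ g s = s' := by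
  have hp0 : p ≠ 0 := by
    rintro rfl
    simp at hps
  have hp0' : p' ≠ 0 := by
    rintro rfl
    exact hps (by simpa using hps'.symm)
  obtain ⟨g, hg, hg'⟩ := H.exists_eichG_apply_isotropic hW h3 hpW hpW' hp0 hp0' hp hp'
  have hgU : g ∈ UG B := SUG_le_UG (H.eichG_le_SUG W hg)
  have hgs : g s ∈ W := by
    rw [← H.perp_perp W] at hsW ⊢
    exact apply_mem_perp hgU (eichG_le_fixG W hg) hsW
  have h1 : B p' (g s) = B p s := by rw [← hg', hgU]
  obtain ⟨k, hk, hk1, hk2⟩ := H.exists_eichG_apply hpW' hgs hsW' hp' (by rwa [h1])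
    (by rw [h1, hps']) (by rw [hgU, hs])
  exact ⟨k * g, mul_mem hk hg, by rw [LinearEquiv.mul_apply, hg', hk1],
    by rw [LinearEquiv.mul_apply, hk2]⟩

/-- An element of `SU` fixing `perp W` pointwise is a product of Eichler transformations. -/
theorem mem_eichG_of_mem_fixG (m : ℕ) : ∀ {W : Submodule F V}, Nd B W → finrank F W = m →
    ∀ g ∈ SUG B, g ∈ fixG (perp B W) → g ∈ eichG B ⊤ := by
  induction m using Nat.strong_induction_on with
  | _ m ih =>
  intro W hW hm g hg hfix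
  have hpres : ∀ k ∈ UG B, k ∈ fixG (perp B W) → ∀ x ∈ W, k x ∈ W := fun k hk hk' x hx => by
    rw [← H.perp_perp W] at hx ⊢
    exact apply_mem_perp hk hk' hx
  have hred : ∀ t ∈ eichG B W, ∀ g ∈ SUG B, g ∈ fixG (perp B W) →
      t * g ∈ SUG B ∧ t * g ∈ fixG (perp B W) ∧ (t * g ∈ eichG B ⊤ → g ∈ eichG B ⊤) :=
    fun t ht g hg hfix => ⟨mul_mem (H.eichG_le_SUG W ht) hg, mul_mem (eichG_le_fixG W ht) hfix,
      fun h => (mul_mem_cancel_left (eichG_mono le_top ht)).1 h⟩
  rcases Nat.lt_or_ge m 2 with h2 | h2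
  · rcases Nat.eq_zero_or_pos m with h0 | h0
    · rw [Submodule.finrank_eq_zero.1 (hm.trans h0), perp_bot, fixG_top, Subgroup.mem_bot] at hfix
      rw [hfix]
      exact one_mem _
    · obtain ⟨e, heW, he⟩ := H.exists_unit hW (by
        rintro rfl
        simp at hm
        omega)
      have he0 : e ≠ 0 := by
        rintro rfl
        simp at he
      have hWe : (F ∙ e) = W := Submodule.eq_of_le_of_finrank_eq
        ((Submodule.span_singleton_le_iff_mem _ _).2 heW) (by rw [finrank_span_singleton he0]; omega)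
      have hge := hpres g (SUG_le_UG hg) hfix e heW
      rw [← hWe] at hge hfix
      obtain ⟨a, ha⟩ := Submodule.mem_span_singleton.1 hge
      have hT := isTv_of_apply he ha.symm fun x hx => hfix x (mem_perp_span_singleton.2 hx)
      have hdet := hT.det
      rw [(mem_SUG.1 hg).2, he] at hdet
      have ha1 : a - 1 = 0 := by linear_combination -hdet
      rw [ha1] at hT
      rw [hT.unique (IsTv.one e)]
      exact one_mem _
  obtain ⟨p, hpW, hp0, hp⟩ := H.exists_isotropic hW (by omega)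
  obtain ⟨s, hsW, hs, hps⟩ := H.exists_partner' hW hpW hp0 hp
  have hsp := H.eq_one_symm hps
  have hps0 : B p s ≠ 0 := by rw [hps]; exact one_ne_zero
  have hPW : Submodule.span F {p, s} ≤ W :=
    Submodule.span_le.2 (by rintro x (rfl | rfl) <;> assumption)
  rcases Nat.lt_or_ge m 3 with h3 | h3
  · have hWP : Submodule.span F {p, s} = W := Submodule.eq_of_le_of_finrank_eq hPW
      (by rw [finrank_span_pair hp hps0]; omega)
    have step2 : ∀ g ∈ SUG B, g ∈ fixG (perp B W) → B s (g p) ≠ 0 → g ∈ eichG B ⊤ := by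
      intro g hg hfix h0
      have hgU := SUG_le_UG hg
      obtain ⟨t, ht, -, ht'⟩ := H.exists_eichG_apply (v := B s (g p) • p) hsW
        (hpres g hgU hfix p hpW) (W.smul_mem _ hpW) hs h0 (by simp [hsp])
        (by rw [hgU, hp]; simp [hp])
      obtain ⟨hg2, hfix2, himp2⟩ := hred t ht g hg hfix
      apply himp2
      have e2 : (t * g) p = B s (g p) • p := ht'
      generalize t * g = g2 at hg2 hfix2 e2
      generalize B s (g p) = α at h0 e2
      have hgU2 := SUG_le_UG hg2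
      have hβ : σ α * B p (g2 s) = 1 := by
        have := hgU2 p s
        rw [e2, hps] at this
        simpa using this
      have hβ0 : B p (g2 s) ≠ 0 := right_ne_zero_of_mul_eq_one hβ
      obtain ⟨t, ht, htp, ht'⟩ := H.exists_eichG_apply (v := B p (g2 s) • s) hpW
        (hpres g2 hgU2 hfix2 s hsW) (W.smul_mem _ hsW) hp hβ0 (by simp [hps])
        (by rw [hgU2, hs]; simp [hs])
      obtain ⟨hg3, hfix3, himp3⟩ := hred t ht g2 hg2 hfix2
      apply himp3
      have hD : IsDiag B p s α (B p (g2 s)) (t * g2) := H.isDiag_of_apply hp hs hps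
        (by rw [LinearEquiv.mul_apply, e2, map_smul, htp]) ht'
        (fun x h1 h2 => hfix3 x (by rw [← hWP]; exact mem_perp_span_pair.2 ⟨h1, h2⟩))
      have hdet := hD.det H hs hps
      rw [(mem_SUG.1 hg3).2] at hdet
      have hασ : σ α = α := mul_right_cancel₀ hβ0 (hβ.trans hdet)
      rw [eq_inv_of_mul_eq_one_right hdet.symm] at hD
      exact tvG_le_eichG (hD.mem_tvG H hp hs hps h0 hασ)
    by_cases h0 : B s (g p) = 0
    · obtain ⟨δ, hδ0, hδ⟩ := H.conj.exists_skew
      obtain ⟨t, ht⟩ := exists_isTv' hp δ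
      obtain ⟨hg2, hfix2, himp2⟩ := hred t
        ((ht.isEich hp (by simp [hδ])).mem_eichG hpW W.zero_mem) g hg hfix
      refine himp2 (step2 _ hg2 hfix2 ?_)
      rw [LinearEquiv.mul_apply, ht]
      simp only [map_add, map_smul, h0, hsp, smul_eq_mul, mul_one, zero_add]
      refine mul_ne_zero hδ0 fun h1 => hp0 (g.injective ?_)
      rw [map_zero]
      refine hW _ (hpres g (SUG_le_UG hg) hfix p hpW) (H.mem_perp'.1 ?_)
      rw [← hWP]
      exact mem_perp_span_pair.2 ⟨h1, h0⟩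
    · exact step2 g hg hfix h0
  · have hgU := SUG_le_UG hg
    obtain ⟨t, ht, htp, hts⟩ := H.exists_eichG_apply_pair hW (by omega) (hpres g hgU hfix p hpW)
      (hpres g hgU hfix s hsW) hpW hsW (by rw [hgU, hp]) hp (by rw [hgU]) (by rwa [hgU])
      (by rw [hgU])
    obtain ⟨hg2, hfix2, himp2⟩ := hred t ht g hg hfix
    have hdim := H.finrank_inf_perp_add hW hPW
    rw [finrank_span_pair hp hps0] at hdim
    refine himp2 (ih _ (by omega) (H.nd_inf_perp hW (H.nd_span_pair hp hps0) hPW) rfl _ hg2 ?_)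
    rw [H.perp_inf, H.perp_perp, mem_fixG_sup, mem_fixG_span]
    refine ⟨hfix2, ?_⟩
    rintro x (rfl | rfl)
    · exact htp
    · exact hts

/-- `SU` is generated by the Eichler transformations. -/
theorem eichG_top : eichG B ⊤ = SUG B :=
  le_antisymm (H.eichG_le_SUG ⊤) fun g hg =>
    H.mem_eichG_of_mem_fixG _ H.nd_top rfl g hg (by rw [H.perp_top, fixG_bot]; trivial)

/-- `SU` is generated by the transvections, except `SU_3(2)`. -/
theorem tvG_eq_SUG (hn : ¬ (finrank F V = 3 ∧ q = 2)) : tvG B = SUG B :=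
  le_antisymm H.tvG_le_SUG (H.eichG_top ▸ H.eichG_le_tvG hn ⊤)

end IsHerm

end CL.Herm
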