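import Cfsg.Agent.Base
import Cfsg.Agent.Unitary.Witt

/-!
# The standard Hermitian form and the bridge to the matrix groups `Cfsg.GU`, `Cfsg.SU`
-/

set_option autoImplicit false

namespace CL.Herm

open Module Matrix

variable {F V V' : Type*} [Field F] [AddCommGroup V] [Module F V] [AddCommGroup V'] [Module F V']
  {σ : F →+* F} {q : ℕ}

/-- The standard Hermitian form `∑ σ (u i) * v i`. -/
def stdForm (σ : F →+* F) (ι : Type*) [Fintype ι] : (ι → F) →ₛₗ[σ] (ι → F) →ₗ[F] F :=
  LinearMap.mk₂'ₛₗ σ (RingHom.id F) (fun u v => ∑ i, σ (u i) * v i)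
    (fun u u' v => by simp [add_mul, Finset.sum_add_distrib])
    (fun c u v => by simp [Finset.mul_sum, mul_assoc])
    (fun u v v' => by simp [mul_add, Finset.sum_add_distrib])
    (fun c u v => by simp [Finset.mul_sum, mul_left_comm])

theorem stdForm_apply {ι : Type*} [Fintype ι] (u v : ι → F) :
    stdForm σ ι u v = ∑ i, σ (u i) * v i := rfl

theorem stdForm_single_left {ι : Type*} [Fintype ι] [DecidableEq ι] (i : ι) (a : F) (v : ι → F) :
    stdForm σ ι (Pi.single i a) v = σ a * v i := by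
  rw [stdForm_apply, Finset.sum_eq_single i (fun j _ hj => by simp [hj]) (by simp)]
  simp

theorem stdForm_single_right {ι : Type*} [Fintype ι] [DecidableEq ι] (i : ι) (a : F) (v : ι → F) :
    stdForm σ ι v (Pi.single i a) = σ (v i) * a := by
  rw [stdForm_apply, Finset.sum_eq_single i (fun j _ hj => by simp [hj]) (by simp)]
  simp

theorem Conj.isHerm_std (h : Conj σ q) (ι : Type*) [Fintype ι] : IsHerm q (stdForm σ ι) where
  conj := h
  symm := fun x y => by simp [stdForm_apply, map_sum, h.invol, mul_comm]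
  nd := fun x hx => by
    classical
    funext i
    simpa [stdForm_single_right] using hx (Pi.single i 1)

theorem Conj.hermForm_eq (h : Conj σ q) {n : ℕ} (u v : Fin n → F) :
    Cfsg.hermForm n F q u v = stdForm σ (Fin n) v u := by
  simp [Cfsg.hermForm, stdForm_apply, h.apply, mul_comm]

/-- A monomorphism with known range as an isomorphism. -/
noncomputable def mulEquivOfRange {G H : Type*} [Group G] [Group H] (f : G →* H)
    (hf : Function.Injective f) (K : Subgroup H) (h : f.range = K) : G ≃* K :=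
  (MonoidHom.ofInjective hf).trans (MulEquiv.subgroupCongr h)

theorem coe_mulEquivOfRange {G H : Type*} [Group G] [Group H] (f : G →* H)
    (hf : Function.Injective f) (K : Subgroup H) (h : f.range = K) (g : G) :
    (mulEquivOfRange f hf K h g : H) = f g := rfl

/-- Invertible matrices as linear automorphisms. -/
def glEquiv (ι : Type*) [Fintype ι] [DecidableEq ι] (F : Type*) [Field F] :
    GL ι F ≃* ((ι → F) ≃ₗ[F] (ι → F)) :=
  Matrix.GeneralLinearGroup.toLin.trans (LinearMap.GeneralLinearGroup.generalLinearEquiv F _)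

theorem glEquiv_apply {ι : Type*} [Fintype ι] [DecidableEq ι] (g : GL ι F) (v : ι → F) :
    glEquiv ι F g v = (g : Matrix ι ι F) *ᵥ v := rfl

theorem glEquiv_coe {ι : Type*} [Fintype ι] [DecidableEq ι] (g : GL ι F) :
    (glEquiv ι F g : (ι → F) →ₗ[F] (ι → F)) = Matrix.toLin' (g : Matrix ι ι F) :=
  LinearMap.ext fun _ => rfl

theorem det_glEquiv {ι : Type*} [Fintype ι] [DecidableEq ι] (g : GL ι F) :
    LinearMap.det (glEquiv ι F g : (ι → F) →ₗ[F] (ι → F)) = (g : Matrix ι ι F).det := by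
  rw [glEquiv_coe, LinearMap.det_toLin']

theorem linearEquiv_det_glEquiv {ι : Type*} [Fintype ι] [DecidableEq ι] (g : GL ι F) :
    LinearEquiv.det (glEquiv ι F g) = Matrix.GeneralLinearGroup.det g := by
  ext
  rw [LinearEquiv.coe_det, det_glEquiv]
  rfl

theorem mem_GU_iff' {n : ℕ} (g : GL (Fin n) F) : g ∈ Cfsg.GU n F q ↔ ∀ u v,
    Cfsg.hermForm n F q ((g : Matrix (Fin n) (Fin n) F) *ᵥ u) ((g : Matrix (Fin n) (Fin n) F) *ᵥ v)
      = Cfsg.hermForm n F q u v := Iff.rfl

theorem mem_SU_iff' {n : ℕ} (g : SpecialLinearGroup (Fin n) F) : g ∈ Cfsg.SU n F q ↔ ∀ u v,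
    Cfsg.hermForm n F q ((g : Matrix (Fin n) (Fin n) F) *ᵥ u) ((g : Matrix (Fin n) (Fin n) F) *ᵥ v)
      = Cfsg.hermForm n F q u v := Iff.rfl

theorem Conj.mem_GU_iff (h : Conj σ q) {n : ℕ} (g : GL (Fin n) F) :
    g ∈ Cfsg.GU n F q ↔ glEquiv (Fin n) F g ∈ UG (stdForm σ (Fin n)) := by
  simp only [mem_GU_iff', h.hermForm_eq, mem_UG, glEquiv_apply]
  exact forall_comm

theorem Conj.mem_SU_iff (h : Conj σ q) {n : ℕ} (g : SpecialLinearGroup (Fin n) F) :
    g ∈ Cfsg.SU n F q ↔ SpecialLinearGroup.toLin' g ∈ UG (stdForm σ (Fin n)) := by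
  simp only [mem_SU_iff', h.hermForm_eq, mem_UG, SpecialLinearGroup.toLin'_apply,
    Matrix.toLin'_apply]
  exact forall_comm

/-- `GU n F q` acting on column vectors. -/
def guHom (n : ℕ) (F : Type*) [Field F] (q : ℕ) :
    Cfsg.GU n F q →* ((Fin n → F) ≃ₗ[F] (Fin n → F)) :=
  (glEquiv (Fin n) F).toMonoidHom.comp (Cfsg.GU n F q).subtype

/-- `SU n F q` acting on column vectors. -/
def suHom (n : ℕ) (F : Type*) [Field F] (q : ℕ) :
    Cfsg.SU n F q →* ((Fin n → F) ≃ₗ[F] (Fin n → F)) :=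
  SpecialLinearGroup.toLin'.comp (Cfsg.SU n F q).subtype

theorem guHom_apply {n : ℕ} (g : Cfsg.GU n F q) (v : Fin n → F) :
    guHom n F q g v = ((g : GL (Fin n) F) : Matrix (Fin n) (Fin n) F) *ᵥ v := rfl

theorem suHom_apply {n : ℕ} (g : Cfsg.SU n F q) (v : Fin n → F) :
    suHom n F q g v = ((g : SpecialLinearGroup (Fin n) F) : Matrix (Fin n) (Fin n) F) *ᵥ v := rfl

theorem guHom_injective {n : ℕ} : Function.Injective (guHom n F q) :=
  (glEquiv (Fin n) F).injective.comp Subtype.val_injective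

theorem suHom_injective {n : ℕ} : Function.Injective (suHom n F q) := fun _ _ h =>
  Subtype.ext (SpecialLinearGroup.toLin'_injective h)

theorem Conj.range_guHom (h : Conj σ q) (n : ℕ) :
    (guHom n F q).range = UG (stdForm σ (Fin n)) := by
  ext g
  constructor
  · rintro ⟨a, rfl⟩
    exact (h.mem_GU_iff a.1).1 a.2
  · intro hg
    obtain ⟨a, rfl⟩ := (glEquiv (Fin n) F).surjective g
    exact ⟨⟨a, (h.mem_GU_iff a).2 hg⟩, rfl⟩

theorem Conj.range_suHom (h : Conj σ q) (n : ℕ) :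
    (suHom n F q).range = SUG (stdForm σ (Fin n)) := by
  ext g
  rw [mem_SUG]
  constructor
  · rintro ⟨a, rfl⟩
    refine ⟨(h.mem_SU_iff a.1).1 a.2, ?_⟩
    change LinearMap.det (SpecialLinearGroup.toLin' a.1 : (Fin n → F) →ₗ[F] (Fin n → F)) = 1
    rw [SpecialLinearGroup.toLin'_to_linearMap, LinearMap.det_toLin']
    exact a.1.2
  · rintro ⟨hg, hd⟩
    obtain ⟨a, rfl⟩ := (glEquiv (Fin n) F).surjective g
    rw [det_glEquiv] at hd
    have : SpecialLinearGroup.toLin' (⟨a, hd⟩ : SpecialLinearGroup (Fin n) F)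
      = glEquiv (Fin n) F a := LinearEquiv.ext fun _ => rfl
    exact ⟨⟨⟨a, hd⟩, (h.mem_SU_iff _).2 (this ▸ hg)⟩, this⟩

/-- The matrix group `GU` is the unitary group of the standard form. -/
noncomputable def Conj.guEquiv (h : Conj σ q) (n : ℕ) :
    Cfsg.GU n F q ≃* UG (stdForm σ (Fin n)) :=
  mulEquivOfRange _ guHom_injective _ (h.range_guHom n)

/-- The matrix group `SU` is the special unitary group of the standard form. -/
noncomputable def Conj.suEquiv (h : Conj σ q) (n : ℕ) :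
    Cfsg.SU n F q ≃* SUG (stdForm σ (Fin n)) :=
  mulEquivOfRange _ suHom_injective _ (h.range_suHom n)

theorem Conj.coe_guEquiv (h : Conj σ q) {n : ℕ} (g : Cfsg.GU n F q) :
    (h.guEquiv n g : (Fin n → F) ≃ₗ[F] (Fin n → F)) = guHom n F q g := rfl

theorem Conj.coe_suEquiv (h : Conj σ q) {n : ℕ} (g : Cfsg.SU n F q) :
    (h.suEquiv n g : (Fin n → F) ≃ₗ[F] (Fin n → F)) = suHom n F q g := rfl

/-- Transport of automorphisms along a linear equivalence. -/
def congrAut (e : V ≃ₗ[F] V') : (V ≃ₗ[F] V) ≃* (V' ≃ₗ[F] V') where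
  toFun g := (e.symm.trans g).trans e
  invFun g := (e.trans g).trans e.symm
  left_inv g := by ext; simp
  right_inv g := by ext; simp
  map_mul' a b := by ext; simp

theorem congrAut_apply (e : V ≃ₗ[F] V') (g : V ≃ₗ[F] V) (x : V') :
    congrAut e g x = e (g (e.symm x)) := rfl

theorem congrAut_symm_apply (e : V ≃ₗ[F] V') (g : V' ≃ₗ[F] V') (x : V) :
    (congrAut e).symm g x = e.symm (g (e x)) := rfl

theorem det_congrAut (e : V ≃ₗ[F] V') (g : V ≃ₗ[F] V) :
    LinearMap.det (congrAut e g : V' →ₗ[F] V') = LinearMap.det (g : V →ₗ[F] V) :=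
  LinearMap.det_conj (g : V →ₗ[F] V) e

variable {B : V →ₛₗ[σ] V →ₗ[F] F} {B' : V' →ₛₗ[σ] V' →ₗ[F] F}

theorem congrAut_mem_UG {e : V ≃ₗ[F] V'} (he : ∀ x y, B' (e x) (e y) = B x y) (g : V ≃ₗ[F] V) :
    congrAut e g ∈ UG B' ↔ g ∈ UG B := by
  constructor
  · intro h x y
    have := h (e x) (e y)
    simpa [congrAut_apply, he] using this
  · intro h x y
    rw [congrAut_apply, congrAut_apply, he, h, ← he]
    simp

theorem congrAut_mem_SUG {e : V ≃ₗ[F] V'} (he : ∀ x y, B' (e x) (e y) = B x y) (g : V ≃ₗ[F] V) :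
    congrAut e g ∈ SUG B' ↔ g ∈ SUG B := by
  rw [mem_SUG, mem_SUG, congrAut_mem_UG he, det_congrAut]

theorem map_congrAut_UG {e : V ≃ₗ[F] V'} (he : ∀ x y, B' (e x) (e y) = B x y) :
    (UG B).map (congrAut e : _ →* _) = UG B' := by
  ext g
  obtain ⟨g, rfl⟩ := (congrAut e).surjective g
  rw [congrAut_mem_UG he]
  exact Subgroup.mem_map_iff_mem (f := (congrAut e).toMonoidHom) (congrAut e).injective

theorem map_congrAut_SUG {e : V ≃ₗ[F] V'} (he : ∀ x y, B' (e x) (e y) = B x y) :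
    (SUG B).map (congrAut e : _ →* _) = SUG B' := by
  ext g
  obtain ⟨g, rfl⟩ := (congrAut e).surjective g
  rw [congrAut_mem_SUG he]
  exact Subgroup.mem_map_iff_mem (f := (congrAut e).toMonoidHom) (congrAut e).injective

/-- Isometric spaces have isomorphic unitary groups. -/
def congrUG {e : V ≃ₗ[F] V'} (he : ∀ x y, B' (e x) (e y) = B x y) : UG B ≃* UG B' :=
  ((congrAut e).subgroupMap (UG B)).trans (MulEquiv.subgroupCongr (map_congrAut_UG he))

/-- Isometric spaces have isomorphic special unitary groups. -/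
noncomputable def congrSUG {e : V ≃ₗ[F] V'} (he : ∀ x y, B' (e x) (e y) = B x y) :
    SUG B ≃* SUG B' :=
  ((congrAut e).subgroupMap (SUG B)).trans (MulEquiv.subgroupCongr (map_congrAut_SUG he))

theorem coe_congrUG {e : V ≃ₗ[F] V'} (he : ∀ x y, B' (e x) (e y) = B x y) (g : UG B) :
    (congrUG he g : V' ≃ₗ[F] V') = congrAut e g := rfl

theorem coe_congrSUG {e : V ≃ₗ[F] V'} (he : ∀ x y, B' (e x) (e y) = B x y) (g : SUG B) :
    (congrSUG he g : V' ≃ₗ[F] V') = congrAut e g := rfl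

/-- Coordinates in an orthonormal basis give an isometry with the standard form. -/
theorem stdForm_equivFun {ι : Type*} [Fintype ι] [DecidableEq ι] (b : Basis ι F V)
    (hb : ∀ i j, B (b i) (b j) = if i = j then 1 else 0) (x y : V) :
    stdForm σ ι (b.equivFun x) (b.equivFun y) = B x y := by
  conv_rhs => rw [← b.sum_equivFun x, ← b.sum_equivFun y]
  generalize b.equivFun x = u
  generalize b.equivFun y = v
  simp [stdForm_apply, map_sum, hb, mul_comm]

/-- Every Hermitian space is isometric to the standard one. -/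
theorem IsHerm.exists_equiv_std [FiniteDimensional F V] (H : IsHerm q B) {n : ℕ}
    (hn : finrank F V = n) :
    ∃ e : V ≃ₗ[F] (Fin n → F), ∀ x y, stdForm σ (Fin n) (e x) (e y) = B x y := by
  obtain ⟨b, hb⟩ := H.exists_orthonormal_basis hn
  exact ⟨b.equivFun, stdForm_equivFun b hb⟩

theorem IsHerm.nonempty_UG_equiv_GU [FiniteDimensional F V] (H : IsHerm q B) {n : ℕ}
    (hn : finrank F V = n) : Nonempty (UG B ≃* Cfsg.GU n F q) := by
  obtain ⟨e, he⟩ := H.exists_equiv_std hn
  exact ⟨(congrUG he).trans (H.conj.guEquiv n).symm⟩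

theorem IsHerm.nonempty_SUG_equiv_SU [FiniteDimensional F V] (H : IsHerm q B) {n : ℕ}
    (hn : finrank F V = n) : Nonempty (SUG B ≃* Cfsg.SU n F q) := by
  obtain ⟨e, he⟩ := H.exists_equiv_std hn
  exact ⟨(congrSUG he).trans (H.conj.suEquiv n).symm⟩

/-- The abstract hypotheses of the statements give an `IsHerm`. -/
theorem exists_isHerm [Finite F] (hσ : σ ≠ RingHom.id F) (hσ2 : ∀ a : F, σ (σ a) = a)
    (hS : B.IsSymm) (hB : B.Nondegenerate) : ∃ q, IsHerm q B := by
  obtain ⟨q, hq⟩ := exists_conj_of_invol σ hσ hσ2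
  exact ⟨q, hq, hS.eq, hB.1⟩

end CL.Herm
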