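import Cfsg.Agent.Base
import Cfsg.Agent.Unitary.Std

/-!
# Counting vectors of given norm in a Hermitian space
-/

set_option autoImplicit false

namespace CL.Herm

open Module

variable {F V : Type*} [Field F] [AddCommGroup V] [Module F V] {σ : F →+* F} {q : ℕ}

/-- The number of vectors of norm `c` for the standard form in dimension `n`. -/
noncomputable def normCount (σ : F →+* F) (n : ℕ) (c : F) : ℕ :=
  Nat.card {v : Fin n → F // stdForm σ (Fin n) v v = c}

namespace Conj

variable (h : Conj σ q)
include h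

theorem normCount_eq_one (n : ℕ) {c : F} (h0 : c ≠ 0) (hc : σ c = c) :
    normCount σ n c = normCount σ n 1 := by
  obtain ⟨a, ha⟩ := h.exists_norm hc
  have ha0 : a ≠ 0 := by
    rintro rfl
    exact h0 (by simpa using ha.symm)
  refine Nat.card_congr ⟨fun v => ⟨a⁻¹ • v.1, ?_⟩, fun v => ⟨a • v.1, ?_⟩,
    fun v => by simp [ha0], fun v => by simp [ha0]⟩
  · rw [IsHerm.smul_smul_self, v.2, map_inv₀, ← mul_inv, ha, inv_mul_cancel₀ h0]
  · rw [IsHerm.smul_smul_self, v.2, ha, mul_one]

theorem normCount_succ (n : ℕ) {c : F} (hc : σ c = c) :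
    (normCount σ (n + 1) c : ℤ) = Nat.card {x : F // x * σ x = c} * normCount σ n 0 +
      (q ^ 2 - Nat.card {x : F // x * σ x = c}) * normCount σ n 1 := by
  classical
  have := h.finite
  have := Fintype.ofFinite F
  have e : {v : Fin (n + 1) → F // stdForm σ (Fin (n + 1)) v v = c} ≃
      Σ x : F, {w : Fin n → F // stdForm σ (Fin n) w w = c - x * σ x} :=
    { toFun := fun v => ⟨v.1 0, Fin.tail v.1, by
        have := v.2
        rw [stdForm_apply, Fin.sum_univ_succ] at this
        rw [stdForm_apply]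
        simp only [Fin.tail]
        linear_combination this⟩
      invFun := fun x => ⟨Fin.cons x.1 x.2.1, by
        have := x.2.2
        rw [stdForm_apply] at this
        rw [stdForm_apply, Fin.sum_univ_succ]
        simp only [Fin.cons_zero, Fin.cons_succ]
        linear_combination this⟩
      left_inv := fun v => by simp
      right_inv := fun x => rfl }
  have h1 : normCount σ (n + 1) c = ∑ x : F, normCount σ n (c - x * σ x) := by
    rw [normCount, Nat.card_congr e, Nat.card_sigma]
    rfl
  have h2 : ∀ x : F, (normCount σ n (c - x * σ x) : ℤ) =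
      if x * σ x = c then (normCount σ n 0 : ℤ) else normCount σ n 1 := fun x => by
    split_ifs with hx
    · rw [hx, sub_self]
    · rw [h.normCount_eq_one n (sub_ne_zero.2 (Ne.symm hx)) (by rw [map_sub, hc, h.conj_norm])]
  have h3 := Finset.card_filter_add_card_filter_not (s := Finset.univ) (fun x : F => x * σ x = c)
  rw [Finset.card_univ, ← Nat.card_eq_fintype_card, h.card] at h3
  have h4 : Nat.card {x : F // x * σ x = c} =
      (Finset.univ.filter (fun x : F => x * σ x = c)).card := by
    rw [Nat.card_eq_fintype_card, Fintype.card_subtype]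
  rw [h1, Nat.cast_sum, Finset.sum_congr rfl fun x _ => h2 x, Finset.sum_ite, Finset.sum_const,
    Finset.sum_const, h4, nsmul_eq_mul, nsmul_eq_mul]
  congr 2
  rw [eq_sub_iff_add_eq, add_comm]
  exact_mod_cast h3

theorem normCount_formula (n : ℕ) :
    (q : ℤ) * normCount σ n 0 = q ^ (2 * n) + (q - 1) * (-q) ^ n ∧
      (q : ℤ) * normCount σ n 1 = q ^ (2 * n) - (-q) ^ n := by
  induction n with
  | zero =>
    have h0 : normCount σ 0 0 = 1 := by
      rw [normCount, Nat.card_eq_one_iff_unique]
      exact ⟨inferInstance, ⟨⟨0, by simp [stdForm_apply]⟩⟩⟩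
    have h1 : normCount σ 0 1 = 0 := by
      rw [normCount, Nat.card_eq_zero]
      exact Or.inl ⟨fun v => by simpa [stdForm_apply] using v.2⟩
    simp [h0, h1]
  | succ n ih =>
    have hz : Nat.card {x : F // x * σ x = 0} = 1 := by
      rw [Nat.card_eq_one_iff_unique]
      refine ⟨⟨fun x y => Subtype.ext ?_⟩, ⟨⟨0, by simp⟩⟩⟩
      have hx : x.1 = 0 := by simpa using x.2
      have hy : y.1 = 0 := by simpa using y.2
      rw [hx, hy]
    rw [h.normCount_succ n (map_zero σ), h.normCount_succ n (map_one σ), hz, h.card_norm_one]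
    push_cast
    constructor
    · linear_combination ih.1 + ((q : ℤ) ^ 2 - 1) * ih.2
    · linear_combination ((q : ℤ) + 1) * ih.1 + ((q : ℤ) ^ 2 - q - 1) * ih.2

theorem normCount_one (n : ℕ) : normCount σ n 1 =
    if Even n then q ^ (n - 1) * (q ^ n - 1) else q ^ (n - 1) * (q ^ n + 1) := by
  have h2 := h.two_le
  have hq : (q : ℤ) ≠ 0 := by exact_mod_cast h.q_ne_zero
  have hf := (h.normCount_formula n).2
  have h1 : 1 ≤ q ^ n := Nat.one_le_pow _ _ (by omega)
  apply Nat.cast_injective (R := ℤ)
  apply mul_left_cancel₀ hq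
  rw [hf]
  cases n with
  | zero => simp
  | succ n =>
    split_ifs with hn
    · rw [hn.neg_pow]
      push_cast [Nat.cast_sub h1, Nat.add_sub_cancel]
      ring
    · rw [(Nat.not_even_iff_odd.1 hn).neg_pow]
      push_cast [Nat.add_sub_cancel]
      ring

theorem normCount_zero (n : ℕ) : normCount σ n 0 =
    (if Even n then (q ^ n - 1) * (q ^ (n - 1) + 1) else (q ^ n + 1) * (q ^ (n - 1) - 1)) + 1 := by
  have h2 := h.two_le
  have hq : (q : ℤ) ≠ 0 := by exact_mod_cast h.q_ne_zero
  have hf := (h.normCount_formula n).1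
  have h1 : 1 ≤ q ^ n := Nat.one_le_pow _ _ (by omega)
  have h1' : 1 ≤ q ^ (n - 1) := Nat.one_le_pow _ _ (by omega)
  apply Nat.cast_injective (R := ℤ)
  apply mul_left_cancel₀ hq
  rw [hf]
  cases n with
  | zero => simp
  | succ n =>
    split_ifs with hn
    · rw [hn.neg_pow]
      push_cast [Nat.cast_sub h1, Nat.add_sub_cancel]
      ring
    · rw [(Nat.not_even_iff_odd.1 hn).neg_pow]
      rw [Nat.add_sub_cancel] at h1'
      push_cast [Nat.cast_sub h1', Nat.add_sub_cancel]
      ring

end Conj

variable {B : V →ₛₗ[σ] V →ₗ[F] F} [FiniteDimensional F V]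

theorem IsHerm.card_norm_eq (H : IsHerm q B) (c : F) :
    Nat.card {v : V // B v v = c} = normCount σ (finrank F V) c := by
  obtain ⟨e, he⟩ := H.exists_equiv_std rfl
  exact Nat.card_congr (e.toEquiv.subtypeEquiv fun v => by simp [he])

theorem IsHerm.card_norm_eq_of_nd (H : IsHerm q B) {W : Submodule F V} (hW : Nd B W) (c : F) :
    Nat.card {v : V // v ∈ W ∧ B v v = c} = normCount σ (finrank F W) c := by
  rw [← (H.restrict hW).card_norm_eq c]
  exact Nat.card_congr ⟨fun v => ⟨⟨v.1, v.2.1⟩, v.2.2⟩, fun v => ⟨v.1.1, v.1.2, v.2⟩,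
    fun _ => rfl, fun _ => rfl⟩

end CL.Herm
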