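import Cfsg.Agent.Base
import Cfsg.Agent.Unitary.Count

/-!
# Orders of unitary groups and of pointwise stabilisers
-/

set_option autoImplicit false

namespace CL.Herm

open Module

variable {F V : Type*} [Field F] [AddCommGroup V] [Module F V] {σ : F →+* F} {q : ℕ}

/-- The order of `GU_n(q)`. -/
def guOrder (q n : ℕ) : ℕ :=
  q ^ (n * (n - 1) / 2) * ∏ i ∈ Finset.range n, (if Even i then q ^ (i + 1) + 1 else q ^ (i + 1) - 1)

theorem guOrder_zero (q : ℕ) : guOrder q 0 = 1 := by simp [guOrder]

theorem Conj.guOrder_succ (h : Conj σ q) (n : ℕ) :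
    guOrder q (n + 1) = normCount σ (n + 1) 1 * guOrder q n := by
  rw [h.normCount_one, guOrder, guOrder, Finset.prod_range_succ]
  have e : (n + 1) * (n + 1 - 1) / 2 = n * (n - 1) / 2 + n := by
    rw [← Nat.choose_two_right, ← Nat.choose_two_right, Nat.choose_succ_succ' n 1,
      Nat.choose_one_right, add_comm]
  rw [e, pow_add, Nat.add_sub_cancel]
  by_cases hn : Even n
  · rw [if_pos hn, if_neg (by simpa [Nat.even_add_one] using hn)]
    ring
  · rw [if_neg hn, if_pos (by simpa [Nat.even_add_one] using hn)]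
    ring

theorem guOrder_pos {q : ℕ} (hq : 2 ≤ q) (n : ℕ) : 0 < guOrder q n := by
  refine Nat.mul_pos (Nat.pow_pos (by omega)) (Finset.prod_pos fun i _ => ?_)
  split_ifs
  · omega
  · have : 1 < q ^ (i + 1) := Nat.one_lt_pow (by omega) (by omega)
    omega

/-- Orbit-stabiliser for a group of linear automorphisms. -/
theorem card_eq_card_orbit_mul (G : Subgroup (V ≃ₗ[F] V)) (s : V) :
    Nat.card G = Nat.card {s' : V // ∃ g ∈ G, g s = s'} *
      Nat.card (G ⊓ fixG (F ∙ s) : Subgroup (V ≃ₗ[F] V)) := by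
  rw [← Nat.card_congr (MulAction.orbitProdStabilizerEquivGroup G s), Nat.card_prod]
  congr 1
  · refine Nat.card_congr (Equiv.subtypeEquivRight fun x => ?_)
    exact ⟨fun ⟨g, hg⟩ => ⟨g.1, g.2, hg⟩, fun ⟨g, hg, h⟩ => ⟨⟨g, hg⟩, h⟩⟩
  · exact Nat.card_congr ⟨fun g => ⟨g.1.1, g.1.2, mem_fixG_span.2 (by
        rintro x rfl
        exact g.2)⟩,
      fun g => ⟨⟨g.1, g.2.1⟩, mem_fixG_span.1 g.2.2 s rfl⟩, fun _ => rfl, fun _ => rfl⟩

theorem fixG_sup (X Y : Submodule F V) : fixG (X ⊔ Y) = fixG X ⊓ fixG Y := by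
  ext g
  exact mem_fixG_sup

variable {B : V →ₛₗ[σ] V →ₗ[F] F} [FiniteDimensional F V]

namespace IsHerm

variable (H : IsHerm q B)
include H

theorem card_fix_step {X : Submodule F V} {s : V} (hs : s ∉ X) :
    Nat.card (UG B ⊓ fixG X : Subgroup (V ≃ₗ[F] V)) =
      Nat.card {s' : V // s' ∉ X ∧ (∀ x ∈ X, B s' x = B s x) ∧ B s' s' = B s s} *
      Nat.card (UG B ⊓ fixG (X ⊔ F ∙ s) : Subgroup (V ≃ₗ[F] V)) := by
  rw [card_eq_card_orbit_mul _ s, fixG_sup, inf_assoc]
  congr 1
  refine Nat.card_congr (Equiv.subtypeEquivRight fun s' => ⟨?_, fun h => ?_⟩)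
  · rintro ⟨g, ⟨hg, hgX⟩, rfl⟩
    refine ⟨fun h => hs ?_, fun x hx => by rw [← hg s x, hgX x hx], hg s s⟩
    rwa [g.injective (hgX _ h)] at h
  · obtain ⟨g, hg, hgX, hgs⟩ := H.witt_fix hs h.1 h.2.1 h.2.2
    exact ⟨g, ⟨hg, hgX⟩, hgs⟩

/-- The pointwise stabiliser of a non-degenerate subspace of codimension `m`. -/
theorem card_fix_nd (m : ℕ) : ∀ {X : Submodule F V}, Nd B X → finrank F X + m = finrank F V →
    Nat.card (UG B ⊓ fixG X : Subgroup (V ≃ₗ[F] V)) = guOrder q m := by
  induction m with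
  | zero =>
    intro X _ hX
    have : X = ⊤ := Submodule.eq_top_of_finrank_eq hX
    rw [this, fixG_top, inf_bot_eq, guOrder_zero]
    simp
  | succ m ih =>
    intro X hX hm
    obtain ⟨e, -, he, hXe⟩ := H.exists_unit_perp H.nd_top hX le_top (by simp; omega)
    have heX : e ∉ X := fun h => one_ne_zero (he.symm.trans (hXe e h))
    have hnd : Nd B (X ⊔ F ∙ e) := H.nd_sup hX (nd_span_singleton (by rw [he]; exact one_ne_zero))
      ((Submodule.span_singleton_le_iff_mem _ _).2 hXe)
    rw [H.card_fix_step heX, ih hnd (by rw [Submodule.finrank_sup_span_singleton heX]; omega),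
      H.conj.guOrder_succ]
    congr 1
    have hdim : finrank F (perp B X) = m + 1 := by
      have := H.finrank_perp_add X
      omega
    rw [← hdim, ← H.card_norm_eq_of_nd (H.nd_perp hX)]
    refine Nat.card_congr (Equiv.subtypeEquivRight fun s' => ⟨fun h => ?_, fun h => ?_⟩)
    · exact ⟨H.mem_perp'.2 fun x hx => by rw [h.2.1 x hx, H.eq_zero_symm (hXe x hx)],
        by rw [h.2.2, he]⟩
    · refine ⟨fun h' => one_ne_zero (h.2.symm.trans (h.1 _ h')), fun x hx => ?_, by rw [h.2, he]⟩
      rw [H.eq_zero_symm (hXe x hx), H.eq_zero_symm (h.1 x hx)]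

theorem card_UG : Nat.card (UG B) = guOrder q (finrank F V) := by
  rw [← H.card_fix_nd (finrank F V) nd_bot (by simp), fixG_bot, inf_top_eq]

theorem finite_aut : Finite (V ≃ₗ[F] V) := by
  have := H.finite
  exact Finite.of_injective (fun g : V ≃ₗ[F] V => (g : V → V)) DFunLike.coe_injective

/-- The number of vectors with prescribed products with `X` and prescribed norm. -/
theorem card_partner {X : Submodule F V} {r s : V} (hr : r ∈ perp B X) (hr0 : B r r = 0)
    (hrX : r ∈ X) (hrs : B r s = 1) :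
    Nat.card {s' : V // s' ∉ X ∧ (∀ x ∈ X, B s' x = B s x) ∧ B s' s' = B s s} =
      q ^ (2 * (finrank F V - finrank F X - 1) + 1) := by
  have hsr : B s r = 1 := H.eq_one_symm hrs
  have hsX : s ∉ X := fun h => by
    have := hr s h
    rw [hsr] at this
    exact one_ne_zero this
  let Y : Submodule F V := perp B (X ⊔ F ∙ s)
  have hY : ∀ y, y ∈ Y ↔ y ∈ perp B X ∧ B s y = 0 := fun y => by
    simp only [Y, perp_sup, Submodule.mem_inf, mem_perp_span_singleton]
  have e : {s' : V // s' ∉ X ∧ (∀ x ∈ X, B s' x = B s x) ∧ B s' s' = B s s} ≃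
      Σ y : Y, {a : F // a + σ a = -B y.1 y.1} :=
    { toFun := fun s' => ⟨⟨s'.1 - s - (B s s'.1 - B s s) • r, (hY _).2 ⟨H.mem_perp'.2 fun x hx => by
          simp [s'.2.2.1 x hx, H.eq_zero_symm (hr x hx)], by simp [hsr]⟩⟩,
        B s s'.1 - B s s, by
          have h1 : B s'.1 r = 1 := by rw [s'.2.2.1 r hrX, hsr]
          have h2 : B r s'.1 = 1 := H.eq_one_symm h1
          simp only [map_sub, LinearMap.sub_apply, LinearMap.map_smulₛₗ, LinearMap.smul_apply,
            smul_eq_mul, RingHom.id_apply, H.symm, h1, h2, hr0, hrs, hsr, s'.2.2.2]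
          ring⟩
      invFun := fun y => ⟨s + y.1.1 + y.2.1 • r, by
        have h1 := (hY _).1 y.1.2
        have h2 : B r y.1.1 = 0 := h1.1 r hrX
        have h3 := H.eq_zero_symm h2
        have h4 := H.eq_zero_symm h1.2
        refine ⟨fun h => ?_, fun x hx => ?_, ?_⟩
        · have := H.eq_zero_symm (hr _ h)
          simp [hrs, h2, hr0] at this
        · simp [H.eq_zero_symm (h1.1 x hx), H.eq_zero_symm (hr x hx)]
        · simp only [map_add, LinearMap.add_apply, LinearMap.map_smulₛₗ, LinearMap.smul_apply,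
            smul_eq_mul, RingHom.id_apply, h1.2, h2, h3, h4, hr0, hrs, hsr]
          linear_combination y.2.2⟩
      left_inv := fun s' => by
        ext
        simp only
        abel
      right_inv := fun y => by
        obtain ⟨⟨y, hy⟩, a, ha⟩ := y
        have h1 := (hY _).1 hy
        have h2 : B s (s + y + a • r) - B s s = a := by simp [h1.2, hsr]
        have h3 : s + y + a • r - s - (B s (s + y + a • r) - B s s) • r = y := by
          rw [h2]
          abel
        refine Sigma.ext (Subtype.ext h3) ?_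
        refine (Subtype.heq_iff_coe_eq ?_).2 h2
        intro x
        simp only [h3] }
  have := H.finite
  have := H.conj.finite
  have := Fintype.ofFinite Y
  rw [Nat.card_congr e, Nat.card_sigma, Finset.sum_congr rfl fun y _ =>
    H.conj.card_trace_fiber (c := -B y.1 y.1) (by rw [map_neg, H.conj_self]),
    Finset.sum_const, Finset.card_univ, ← Nat.card_eq_fintype_card, H.card_eq, smul_eq_mul,
    H.finrank_perp, Submodule.finrank_sup_span_singleton hsX, pow_succ, Nat.sub_add_eq]

/-- The pointwise stabiliser of `R ⊔ Y`, `R` totally isotropic of dimension `k`, `Y ⊥ R`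
non-degenerate of codimension `2 k + m`. -/
theorem card_fix_iso (m k : ℕ) : ∀ {R Y : Submodule F V}, Nd B Y → R ≤ perp B R → R ≤ perp B Y →
    finrank F R = k → finrank F Y + 2 * k + m = finrank F V →
    Nat.card (UG B ⊓ fixG (R ⊔ Y) : Subgroup (V ≃ₗ[F] V)) =
      q ^ (k * (k + 2 * m)) * guOrder q m := by
  induction k with
  | zero =>
    intro R Y hY _ _ hk hm
    rw [Submodule.finrank_eq_zero.1 hk, bot_sup_eq, H.card_fix_nd m hY (by omega)]
    simp
  | succ k ih =>
    intro R Y hY hR hRY hk hm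
    have hR0 : R ≠ ⊥ := by
      rintro rfl
      simp at hk
    obtain ⟨r, hrR, hr0⟩ := (Submodule.ne_bot_iff R).1 hR0
    have hrr : B r r = 0 := hR hrR r hrR
    obtain ⟨s, hsY, hss, hrs⟩ := H.exists_partner' (H.nd_perp hY) (hRY hrR) hr0 hrr
    have hsr : B s r = 1 := H.eq_one_symm hrs
    have hrp : r ∈ perp B (R ⊔ Y) := by
      rw [perp_sup]
      exact ⟨hR hrR, hRY hrR⟩
    have hsX : s ∉ R ⊔ Y := fun h => by
      have := hrp s h
      rw [hsr] at this
      exact one_ne_zero this
    have hRYb : R ⊓ Y = ⊥ := by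
      rw [eq_bot_iff, ← H.nd_iff.1 hY]
      exact fun x hx => ⟨hx.2, hRY hx.1⟩
    have hdimX : finrank F (R ⊔ Y : Submodule F V) = k + 1 + finrank F Y := by
      have := Submodule.finrank_sup_add_finrank_inf_eq R Y
      rw [hRYb, finrank_bot] at this
      omega
    let R' : Submodule F V := R ⊓ perp B (F ∙ s)
    let P : Submodule F V := Submodule.span F {r, s}
    have hrs0 : B r s ≠ 0 := by rw [hrs]; exact one_ne_zero
    have hPY : P ≤ perp B Y := Submodule.span_le.2 (by
      rintro x (rfl | rfl)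
      · exact hRY hrR
      · exact hsY)
    have hnd : Nd B (Y ⊔ P) := H.nd_sup hY (H.nd_span_pair hrr hrs0) hPY
    have hYP : Y ⊓ P = ⊥ := by
      rw [eq_bot_iff, ← H.nd_iff.1 hY]
      exact fun x hx => ⟨hx.1, hPY hx.2⟩
    have hdimYP : finrank F (Y ⊔ P : Submodule F V) = finrank F Y + 2 := by
      have := Submodule.finrank_sup_add_finrank_inf_eq Y P
      rw [hYP, finrank_bot, finrank_span_pair hrr hrs0] at this
      omega
    have hrR' : r ∉ R' := fun h => by
      have := mem_perp_span_singleton.1 h.2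
      rw [hsr] at this
      exact one_ne_zero this
    have hRR' : R' ⊔ F ∙ r = R := by
      apply le_antisymm
      · exact sup_le inf_le_left ((Submodule.span_singleton_le_iff_mem _ _).2 hrR)
      · intro x hx
        refine Submodule.mem_sup.2 ⟨x - B s x • r, ⟨R.sub_mem hx (R.smul_mem _ hrR),
          mem_perp_span_singleton.2 (by simp [hsr])⟩, B s x • r,
          Submodule.smul_mem _ _ (Submodule.mem_span_singleton_self r), by simp⟩
    have hdimR' : finrank F R' = k := by
      have := Submodule.finrank_sup_span_singleton hrR'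
      rw [hRR'] at this
      omega
    have heq : (R ⊔ Y) ⊔ F ∙ s = R' ⊔ (Y ⊔ P) := by
      rw [← hRR', show P = (F ∙ r) ⊔ F ∙ s from Submodule.span_insert r {s}]
      ac_rfl
    rw [H.card_fix_step hsX, H.card_partner hrp hrr (Submodule.mem_sup_left hrR) hrs, heq,
      ih hnd ((inf_le_left.trans hR).trans (perp_anti inf_le_left)) ?_ hdimR' (by omega),
      ← mul_assoc, ← pow_add]
    · congr 2
      have : finrank F V - finrank F (R ⊔ Y : Submodule F V) - 1 = k + m := by omega
      rw [this]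
      ring
    · rw [perp_sup]
      refine le_inf (inf_le_left.trans hRY) fun x hx => mem_perp_span_pair.2 ⟨hR hx.1 r hrR, ?_⟩
      exact mem_perp_span_singleton.1 hx.2

end IsHerm

theorem Conj.card_GU (h : Conj σ q) (n : ℕ) : Nat.card (Cfsg.GU n F q) = guOrder q n := by
  rw [Nat.card_congr (h.guEquiv n).toEquiv, (h.isHerm_std (Fin n)).card_UG]
  simp

end CL.Herm
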