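import Cfsg.Agent.Base
import Cfsg.Agent.Unitary.Gen
import Cfsg.Agent.Unitary.Order

/-!
# Centres and determinants of unitary groups; orders of `SU` and `PSU`
-/

set_option autoImplicit false

namespace CL.Herm

open Module

variable {F V : Type*} [Field F] [AddCommGroup V] [Module F V] {σ : F →+* F} {q : ℕ}
  {B : V →ₛₗ[σ] V →ₗ[F] F}

/-- A map commuting with a transvection fixes its centre. -/
theorem IsTv.apply_mem_span (H : IsHerm q B) {p : V} {c : F} {t g : V ≃ₗ[F] V}
    (ht : IsTv B p c t) (hc : c ≠ 0) (h : t * g = g * t) : g p ∈ F ∙ p := by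
  by_cases hp : p = 0
  · simp [hp]
  obtain ⟨x, hx⟩ : ∃ x, B p x ≠ 0 := by
    by_contra hne
    push Not at hne
    exact hp (H.nd p hne)
  have h1 := LinearEquiv.congr_fun h x
  rw [LinearEquiv.mul_apply, LinearEquiv.mul_apply, ht, ht, map_add, map_smul,
    add_right_inj] at h1
  refine Submodule.mem_span_singleton.2 ⟨(c * B p x)⁻¹ * (c * B p (g x)), ?_⟩
  rw [mul_smul, h1, smul_smul, inv_mul_cancel₀ (mul_ne_zero hc hx), one_smul]

/-- Multiplication by a unit. -/
def scalarAut (V : Type*) [AddCommGroup V] [Module F V] : Fˣ →* (V ≃ₗ[F] V) :=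
  DistribMulAction.toModuleAut F V

theorem scalarAut_apply (a : Fˣ) (x : V) : scalarAut V a x = (a : F) • x := rfl

theorem scalarAut_comm (a : Fˣ) (g : V ≃ₗ[F] V) : g * scalarAut V a = scalarAut V a * g :=
  LinearEquiv.ext fun x => by simp [scalarAut_apply]

theorem scalarAut_injective [Nontrivial V] : Function.Injective (scalarAut V : Fˣ → V ≃ₗ[F] V) := by
  intro a b h
  obtain ⟨x, hx⟩ := exists_ne (0 : V)
  exact Units.ext (smul_left_injective F hx (LinearEquiv.congr_fun h x))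

theorem det_scalarAut [FiniteDimensional F V] (a : Fˣ) :
    LinearEquiv.det (scalarAut V a) = a ^ finrank F V := by
  have : (scalarAut V a : V →ₗ[F] V) = (a : F) • LinearMap.id := LinearMap.ext fun _ => rfl
  ext
  rw [LinearEquiv.coe_det, this, LinearMap.det_smul]
  simp

theorem exists_eq_scalarAut {g : V ≃ₗ[F] V} {a : F} [Nontrivial V] (h : ∀ x, g x = a • x) :
    ∃ u : Fˣ, g = scalarAut V u := by
  obtain ⟨x, hx⟩ := exists_ne (0 : V)
  have ha : a ≠ 0 := by
    rintro rfl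
    exact hx (g.injective (by simp [h]))
  exact ⟨Units.mk0 a ha, LinearEquiv.ext h⟩

theorem Conj.mem_rootsOfUnity (h : Conj σ q) {u : Fˣ} :
    u ∈ rootsOfUnity (q + 1) F ↔ (u : F) * σ u = 1 := by
  rw [_root_.mem_rootsOfUnity', h.norm_eq]

theorem Conj.card_rootsOfUnity_of_dvd (h : Conj σ q) {d : ℕ} (hd : d ∣ q + 1) :
    Nat.card (rootsOfUnity d F) = d := by
  have := h.finite
  have : rootsOfUnity d F = (powMonoidHom d : Fˣ →* Fˣ).ker := by
    ext u
    simp [_root_.mem_rootsOfUnity]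
  rw [this, IsCyclic.card_powMonoidHom_ker, h.card_units]
  exact Nat.gcd_eq_right (hd.mul_right _)

/-- The determinant on the unitary group. -/
noncomputable def detU (B : V →ₛₗ[σ] V →ₗ[F] F) : UG B →* Fˣ :=
  LinearEquiv.det.comp (UG B).subtype

theorem detU_apply (g : UG B) : detU B g = LinearEquiv.det (g : V ≃ₗ[F] V) := rfl

theorem ker_detU : (detU B).ker = (SUG B).subgroupOf (UG B) := by
  ext g
  simp only [MonoidHom.mem_ker, Subgroup.mem_subgroupOf, SUG, Subgroup.mem_inf, g.2, true_and]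
  rfl

namespace IsHerm

variable (H : IsHerm q B)
include H

theorem scalarAut_mem_UG [Nontrivial V] {a : Fˣ} :
    scalarAut V a ∈ UG B ↔ a ∈ rootsOfUnity (q + 1) F := by
  rw [H.conj.mem_rootsOfUnity]
  constructor
  · intro h
    obtain ⟨e, -, he⟩ := H.exists_unit H.nd_top top_ne_bot
    have := h e e
    rwa [scalarAut_apply, smul_smul_self, he, mul_one] at this
  · intro h x y
    simp only [scalarAut_apply, LinearMap.map_smulₛₗ, LinearMap.smul_apply, smul_eq_mul,
      RingHom.id_apply]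
    linear_combination B x y * h

variable [FiniteDimensional F V]

/-- A map fixing every isotropic point is a scalar (dimension at least two). -/
theorem exists_eq_smul_of_isotropic (h2 : 2 ≤ finrank F V) {g : V →ₗ[F] V}
    (hg : ∀ p, B p p = 0 → g p ∈ F ∙ p) : ∃ a : F, ∀ x, g x = a • x := by
  have hA : ∀ p p' : V, B p p = 0 → B p' p' = 0 → B p p' ≠ 0 → ∀ a : F, g p = a • p →
      g p' = a • p' := by
    intro p p' hp hp' h0 a ha
    have h0' : B p' p ≠ 0 := fun h => h0 (H.eq_zero_symm h)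
    obtain ⟨δ, hδ0, hδ⟩ := H.conj.exists_skew
    obtain ⟨a', ha'⟩ := Submodule.mem_span_singleton.1 (hg p' hp')
    obtain ⟨b, hb⟩ := Submodule.mem_span_singleton.1 (hg (p + (δ / B p p') • p') (by
      simp only [map_add, LinearMap.add_apply, LinearMap.map_smulₛₗ, LinearMap.smul_apply,
        smul_eq_mul, RingHom.id_apply, hp, hp', map_div₀, H.symm, hδ]
      field_simp
      ring))
    rw [map_add, map_smul, ha, ← ha'] at hb
    have h1 := congrArg (B p) hb
    have h2 := congrArg (B p') hb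
    simp only [map_add, map_smul, smul_eq_mul, hp, hp', mul_zero, zero_add, add_zero,
      div_mul_cancel₀ _ h0] at h1 h2
    have h3 : b = a := mul_right_cancel₀ h0' h2
    have h4 : b = a' := mul_right_cancel₀ hδ0 (by
      rw [h1]
      field_simp)
    rw [← ha', ← h4, h3]
  obtain ⟨r, -, hr0, hr⟩ := H.exists_isotropic H.nd_top (by simpa using h2)
  obtain ⟨a, ha⟩ := Submodule.mem_span_singleton.1 (hg r hr)
  have hB : ∀ p, B p p = 0 → g p = a • p := by
    intro p hp
    by_cases hp0 : p = 0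
    · simp [hp0]
    by_cases h0 : B r p = 0
    · obtain ⟨s, -, hs, h1, h2⟩ := H.exists_isotropic_not_orth H.nd_top trivial trivial hr0 hp0 hr
        (H.eq_zero_symm h0)
      exact hA s p hs hp (fun h => h2 (H.eq_zero_symm h)) a (hA r s hr hs h1 a ha.symm)
    · exact hA r p hr hp h0 a ha.symm
  refine ⟨a, fun x => ?_⟩
  obtain ⟨u, -, v, -, w, -, hu, hv, hw, rfl⟩ := H.exists_eq_add_isotropic H.nd_top
    (by simpa using h2) (Submodule.mem_top (x := x))
  rw [map_add, map_add, hB u hu, hB v hv, hB w hw, smul_add, smul_add]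

theorem exists_eq_scalarAut_of_isotropic (h2 : 2 ≤ finrank F V) {g : V ≃ₗ[F] V}
    (hg : ∀ p, B p p = 0 → g p ∈ F ∙ p) : ∃ u : Fˣ, g = scalarAut V u := by
  have : Nontrivial V := Module.nontrivial_of_finrank_pos (R := F) (by omega)
  obtain ⟨a, ha⟩ := H.exists_eq_smul_of_isotropic h2 (g := (g : V →ₗ[F] V)) hg
  exact exists_eq_scalarAut ha

/-- A map commuting with `SU` is a scalar (dimension at least two). -/
theorem exists_eq_scalarAut_of_comm (h2 : 2 ≤ finrank F V) {g : V ≃ₗ[F] V}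
    (hg : ∀ t ∈ tvG B, t * g = g * t) : ∃ u : Fˣ, g = scalarAut V u := by
  refine H.exists_eq_scalarAut_of_isotropic h2 fun p hp => ?_
  obtain ⟨δ, hδ0, hδ⟩ := H.conj.exists_skew
  obtain ⟨t, ht⟩ := exists_isTv' hp δ
  exact ht.apply_mem_span H hδ0 (hg t (ht.mem_tvG hp (by simp [hδ])))

theorem mem_center_iff (h2 : 2 ≤ finrank F V) {G : Subgroup (V ≃ₗ[F] V)} (hG : tvG B ≤ G) {g : G} :
    g ∈ Subgroup.center G ↔ ∃ u : Fˣ, (g : V ≃ₗ[F] V) = scalarAut V u := by
  rw [Subgroup.mem_center_iff]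
  constructor
  · intro h
    exact H.exists_eq_scalarAut_of_comm h2 fun t ht => congrArg Subtype.val (h ⟨t, hG ht⟩)
  · rintro ⟨u, hu⟩ k
    apply Subtype.ext
    rw [Subgroup.coe_mul, Subgroup.coe_mul, hu, scalarAut_comm]

theorem mem_center_SUG (h2 : 2 ≤ finrank F V) {g : SUG B} :
    g ∈ Subgroup.center (SUG B) ↔ ∃ u : Fˣ, (g : V ≃ₗ[F] V) = scalarAut V u :=
  H.mem_center_iff h2 H.tvG_le_SUG

theorem mem_center_UG (h2 : 2 ≤ finrank F V) {g : UG B} :
    g ∈ Subgroup.center (UG B) ↔ ∃ u : Fˣ, (g : V ≃ₗ[F] V) = scalarAut V u :=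
  H.mem_center_iff h2 (H.tvG_le_SUG.trans SUG_le_UG)

theorem scalarAut_mem_SUG [Nontrivial V] {a : Fˣ} :
    scalarAut V a ∈ SUG B ↔ a ∈ rootsOfUnity (Nat.gcd (finrank F V) (q + 1)) F := by
  rw [SUG, Subgroup.mem_inf, H.scalarAut_mem_UG, MonoidHom.mem_ker, det_scalarAut,
    _root_.mem_rootsOfUnity, _root_.mem_rootsOfUnity, pow_gcd_eq_one, and_comm]

theorem card_center_SUG (h2 : 2 ≤ finrank F V) :
    Nat.card (Subgroup.center (SUG B)) = Nat.gcd (finrank F V) (q + 1) := by
  have : Nontrivial V := Module.nontrivial_of_finrank_pos (R := F) (by omega)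
  rw [← H.conj.card_rootsOfUnity_of_dvd (Nat.gcd_dvd_right (finrank F V) (q + 1))]
  symm
  refine Nat.card_congr (Equiv.ofBijective (fun a => ⟨⟨scalarAut V a.1, H.scalarAut_mem_SUG.2 a.2⟩,
    (H.mem_center_SUG h2).2 ⟨a.1, rfl⟩⟩) ⟨fun a b hab => ?_, fun g => ?_⟩)
  · exact Subtype.ext (scalarAut_injective (V := V) (congrArg (fun x => x.1.1) hab))
  · obtain ⟨u, hu⟩ := (H.mem_center_SUG h2).1 g.2
    exact ⟨⟨u, H.scalarAut_mem_SUG.1 (hu ▸ g.1.2)⟩, Subtype.ext (Subtype.ext hu.symm)⟩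

theorem card_center_UG (h2 : 2 ≤ finrank F V) :
    Nat.card (Subgroup.center (UG B)) = q + 1 := by
  have : Nontrivial V := Module.nontrivial_of_finrank_pos (R := F) (by omega)
  rw [← H.conj.card_rootsOfUnity_of_dvd (dvd_refl (q + 1))]
  symm
  refine Nat.card_congr (Equiv.ofBijective (fun a => ⟨⟨scalarAut V a.1, H.scalarAut_mem_UG.2 a.2⟩,
    (H.mem_center_UG h2).2 ⟨a.1, rfl⟩⟩) ⟨fun a b hab => ?_, fun g => ?_⟩)
  · exact Subtype.ext (scalarAut_injective (V := V) (congrArg (fun x => x.1.1) hab))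
  · obtain ⟨u, hu⟩ := (H.mem_center_UG h2).1 g.2
    exact ⟨⟨u, H.scalarAut_mem_UG.1 (hu ▸ g.1.2)⟩, Subtype.ext (Subtype.ext hu.symm)⟩

/-- The determinant of an isometry has norm one. -/
theorem det_mul_conj {g : V ≃ₗ[F] V} (hg : g ∈ UG B) :
    LinearMap.det (g : V →ₗ[F] V) * σ (LinearMap.det (g : V →ₗ[F] V)) = 1 := by
  obtain ⟨b, hb⟩ := H.exists_orthonormal_basis rfl
  set M := LinearMap.toMatrix b b (g : V →ₗ[F] V) with hM
  have key : (M.map σ).transpose * M = 1 := by
    ext i j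
    rw [Matrix.one_apply, ← hb, ← hg, ← stdForm_equivFun b hb, stdForm_apply, Matrix.mul_apply]
    simp [hM, LinearMap.toMatrix_apply]
  have := congrArg Matrix.det key
  rw [Matrix.det_mul, Matrix.det_transpose, Matrix.det_one, ← RingHom.mapMatrix_apply,
    ← RingHom.map_det, hM, LinearMap.det_toMatrix] at this
  rw [mul_comm, this]

/-- A quasi-reflection of given determinant, supported on a unit vector. -/
theorem exists_quasiRefl {e : V} (he : B e e = 1) {d : F} (hd : d * σ d = 1) :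
    ∃ g ∈ UG B, IsTv B e (d - 1) g ∧ LinearMap.det (g : V →ₗ[F] V) = d := by
  obtain ⟨g, hg⟩ := exists_isTv (B := B) (p := e) (c := d - 1)
    (by simpa [he] using left_ne_zero_of_mul_eq_one hd)
  refine ⟨g, hg.mem_UG H ?_, hg, by simp [hg.det, he]⟩
  rw [he, map_sub, map_one]
  linear_combination hd

theorem range_detU (h1 : 1 ≤ finrank F V) : (detU B).range = rootsOfUnity (q + 1) F := by
  have : Nontrivial V := Module.nontrivial_of_finrank_pos (R := F) (by omega)
  ext u
  rw [H.conj.mem_rootsOfUnity]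
  constructor
  · rintro ⟨g, rfl⟩
    rw [detU_apply, LinearEquiv.coe_det]
    exact H.det_mul_conj g.2
  · intro hu
    obtain ⟨e, -, he⟩ := H.exists_unit H.nd_top top_ne_bot
    obtain ⟨g, hg, -, hd⟩ := H.exists_quasiRefl he hu
    exact ⟨⟨g, hg⟩, Units.ext (by rw [detU_apply, LinearEquiv.coe_det, hd])⟩

theorem card_SUG (h1 : 1 ≤ finrank F V) :
    (q + 1) * Nat.card (SUG B) = guOrder q (finrank F V) := by
  rw [← H.card_UG, ← (detU B).ker.index_mul_card, Subgroup.index_ker, H.range_detU h1,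
    H.conj.card_rootsOfUnity_of_dvd (dvd_refl _), ker_detU,
    Nat.card_congr (Subgroup.subgroupOfEquivOfLe SUG_le_UG).toEquiv]

end IsHerm

theorem Conj.card_SU (h : Conj σ q) {n : ℕ} (hn : 1 ≤ n) :
    (q + 1) * Nat.card (Cfsg.SU n F q) = guOrder q n := by
  rw [Nat.card_congr (h.suEquiv n).toEquiv, (h.isHerm_std (Fin n)).card_SUG (by simpa using hn)]
  simp

theorem Conj.card_center_SU (h : Conj σ q) {n : ℕ} (hn : 2 ≤ n) :
    Nat.card (Subgroup.center (Cfsg.SU n F q)) = Nat.gcd n (q + 1) := by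
  rw [Nat.card_congr (Subgroup.centerCongr (h.suEquiv n)).toEquiv,
    (h.isHerm_std (Fin n)).card_center_SUG (by simpa using hn)]
  simp

theorem Conj.card_PSU (h : Conj σ q) {n : ℕ} (hn : 2 ≤ n) :
    Nat.gcd n (q + 1) * ((q + 1) * Nat.card (Cfsg.PSU n F q)) = guOrder q n := by
  rw [← h.card_SU (by omega), ← h.card_center_SU hn,
    Subgroup.card_eq_card_quotient_mul_card_subgroup (Subgroup.center (Cfsg.SU n F q))]
  ring

end CL.Herm
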