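import Cfsg.Agent.Base
import Cfsg.Agent.Unitary.Center

/-!
# `SU` is perfect and `PSU` is simple
-/

set_option autoImplicit false

namespace CL.Herm

open Module

/-- If every normal subgroup is central or everything, the central quotient is simple. -/
theorem isSimpleGroup_quotient_center {G : Type*} [Group G] (h0 : Subgroup.center G ≠ ⊤)
    (h : ∀ N : Subgroup G, N.Normal → N ≤ Subgroup.center G ∨ N = ⊤) :
    IsSimpleGroup (G ⧸ Subgroup.center G) := by
  have : Nontrivial (G ⧸ Subgroup.center G) := by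
    obtain ⟨g, hg⟩ : ∃ g, g ∉ Subgroup.center G := by
      by_contra hne
      push Not at hne
      exact h0 (eq_top_iff.2 fun g _ => hne g)
    exact ⟨⟨(g : G ⧸ Subgroup.center G), 1, fun h => hg ((QuotientGroup.eq_one_iff g).1 h)⟩⟩
  refine ⟨fun N hN => ?_⟩
  rcases h (N.comap (QuotientGroup.mk' _)) (hN.comap _) with h1 | h1
  · left
    rw [eq_bot_iff]
    intro x hx
    obtain ⟨x, rfl⟩ := QuotientGroup.mk_surjective x
    exact (QuotientGroup.eq_one_iff x).2 (h1 hx)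
  · right
    rw [eq_top_iff]
    intro x _
    obtain ⟨x, rfl⟩ := QuotientGroup.mk_surjective x
    exact (h1.ge (Subgroup.mem_top x) :)

/-- Isomorphic groups have isomorphic central quotients. -/
def quotientCenterCongr {G G' : Type*} [Group G] [Group G'] (e : G ≃* G') :
    G ⧸ Subgroup.center G ≃* G' ⧸ Subgroup.center G' :=
  QuotientGroup.congr _ _ e (by
    ext x
    obtain ⟨x, rfl⟩ := e.surjective x
    refine (Subgroup.mem_map_iff_mem (f := e.toMonoidHom) e.injective).trans ?_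
    simp only [Subgroup.mem_center_iff]
    refine ⟨fun h y => ?_, fun h y => e.injective (by simpa using h (e y))⟩
    obtain ⟨y, rfl⟩ := e.surjective y
    rw [← map_mul, ← map_mul, h])

variable {F V : Type*} [Field F] [AddCommGroup V] [Module F V] {σ : F →+* F} {q : ℕ}
  {B : V →ₛₗ[σ] V →ₗ[F] F} [FiniteDimensional F V]

namespace IsHerm

variable (H : IsHerm q B)
include H

/-- In dimension at least three every transvection is a commutator in `SU`. -/
theorem exists_commutator_eq (h3 : 3 ≤ finrank F V) {p : V} {c : F} {t : V ≃ₗ[F] V}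
    (hp : B p p = 0) (hc : c + σ c = 0) (ht : IsTv B p c t) :
    ∃ a ∈ SUG B, ∃ b ∈ SUG B, t = a * b * a⁻¹ * b⁻¹ := by
  by_cases hp0 : p = 0
  · exact ⟨1, one_mem _, 1, one_mem _, by simpa using ht.unique (hp0 ▸ IsTv.one' c)⟩
  obtain ⟨s, -, -, hps⟩ := H.exists_partner' H.nd_top trivial hp0 hp
  obtain ⟨e, -, he, hpe, -⟩ := H.exists_unit_perp_pair H.nd_top (by simpa using h3) trivial trivial
    hp (by rw [hps]; exact one_ne_zero)
  obtain ⟨a, ha⟩ := H.conj.exists_sub_conj (c := c) (by linear_combination hc)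
  obtain ⟨c1, g1, h1⟩ := H.exists_isEich' hp hpe
  obtain ⟨c2, g2, h2⟩ := H.exists_isEich' (w := a • e) hp (by simp [hpe])
  refine ⟨g2, h2.mem_SUG H, g1, h1.mem_SUG H, ht.unique ?_⟩
  simpa [he, ha] using h2.commutator H h1

theorem eq_top_of_forall_isTv (hn : ¬ (finrank F V = 3 ∧ q = 2)) {K : Subgroup (SUG B)}
    (h : ∀ (t : SUG B) p c, B p p = 0 → c + σ c = 0 → IsTv B p c t → t ∈ K) : K = ⊤ := by
  have : tvG B ≤ K.map (SUG B).subtype := (Subgroup.closure_le _).2 fun t ⟨p, c, hp, hc, ht⟩ =>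
    ⟨⟨t, ht.mem_SUG H hp hc⟩, h _ p c hp hc ht, rfl⟩
  rw [eq_top_iff]
  intro g _
  exact (Subgroup.mem_map_iff_mem (SUG B).subtype_injective).1
    (this (by rw [H.tvG_eq_SUG hn]; exact g.2))

theorem commutator_SUG (h3 : 3 ≤ finrank F V) (hn : ¬ (finrank F V = 3 ∧ q = 2)) :
    commutator (SUG B) = ⊤ :=
  H.eq_top_of_forall_isTv hn fun t p c hp hc ht => by
    obtain ⟨a, ha, b, hb, h⟩ := H.exists_commutator_eq h3 hp hc ht
    have : t = (⟨a, ha⟩ : SUG B) * ⟨b, hb⟩ * (⟨a, ha⟩ : SUG B)⁻¹ * (⟨b, hb⟩ : SUG B)⁻¹ :=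
      Subtype.ext h
    rw [this]
    exact Subgroup.commutator_mem_commutator (Subgroup.mem_top _) (Subgroup.mem_top _)

/-- A subgroup normalised by `SU` which is not scalar is transitive on isotropic points. -/
theorem exists_apply_mem_span (h2 : 2 ≤ finrank F V) {N : Subgroup (V ≃ₗ[F] V)} (hNU : N ≤ UG B)
    (hN : ∀ g ∈ SUG B, ∀ n ∈ N, g * n * g⁻¹ ∈ N) {n : V ≃ₗ[F] V} (hn : n ∈ N)
    (hns : ∀ u : Fˣ, n ≠ scalarAut V u) {x y : V} (hx0 : x ≠ 0) (hy0 : y ≠ 0) (hx : B x x = 0)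
    (hy : B y y = 0) : ∃ m ∈ N, m x ∈ F ∙ y := by
  let R : V → V → Prop := fun x y => ∃ m ∈ N, m x ∈ F ∙ y
  have hsymm : ∀ x y, x ≠ 0 → R x y → R y x := by
    rintro x y hx ⟨m, hm, h⟩
    obtain ⟨a, ha⟩ := Submodule.mem_span_singleton.1 h
    have ha0 : a ≠ 0 := by
      rintro rfl
      exact hx (m.injective (by simp [← ha]))
    refine ⟨m⁻¹, inv_mem hm, Submodule.mem_span_singleton.2 ⟨a⁻¹, m.injective ?_⟩⟩
    simp [← ha, smul_smul, ha0]
  have htrans : ∀ x y z, R x y → R y z → R x z := by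
    rintro x y z ⟨m, hm, h⟩ ⟨m', hm', h'⟩
    obtain ⟨a, ha⟩ := Submodule.mem_span_singleton.1 h
    refine ⟨m' * m, mul_mem hm' hm, ?_⟩
    rw [LinearEquiv.mul_apply, ← ha, map_smul]
    exact Submodule.smul_mem _ _ h'
  have hconj : ∀ g ∈ SUG B, ∀ x y, R x y → R (g x) (g y) := by
    rintro g hg x y ⟨m, hm, h⟩
    obtain ⟨a, ha⟩ := Submodule.mem_span_singleton.1 h
    exact ⟨g * m * g⁻¹, hN g hg m hm, Submodule.mem_span_singleton.2 ⟨a, by simp [← ha]⟩⟩
  have hne : ∀ x y : V, B x y ≠ 0 → x ≠ 0 := by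
    rintro x y h rfl
    simp at h
  have stepB : ∀ p p' p'', B p p = 0 → B p' p' = 0 → B p'' p'' = 0 → B p p' ≠ 0 → B p p'' ≠ 0 →
      R p p' → R p p'' := by
    intro p p' p'' hp hp' hp'' h1 h2 hR
    obtain ⟨c, g, hg, hg'⟩ := H.exists_isEich_apply (v := (B p p' / B p p'') • p'') hp h1
      (by simp [h2]) (by simp [hp', hp''])
    obtain ⟨m, hm, h⟩ := hconj g (hg.mem_SUG H) p p' hR
    rw [hg.apply_self H, hg'] at h
    exact ⟨m, hm, (Submodule.span_singleton_le_iff_mem _ _).2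
      (Submodule.smul_mem _ _ (Submodule.mem_span_singleton_self _)) h⟩
  obtain ⟨p, p', hp, hp', hpp', hR⟩ : ∃ p p', B p p = 0 ∧ B p' p' = 0 ∧ B p p' ≠ 0 ∧ R p p' := by
    obtain ⟨p0, hp0, hnp⟩ : ∃ p0, B p0 p0 = 0 ∧ n p0 ∉ F ∙ p0 := by
      by_contra hne
      push Not at hne
      obtain ⟨u, hu⟩ := H.exists_eq_scalarAut_of_isotropic h2 hne
      exact hns u hu
    have hp1 : B (n p0) (n p0) = 0 := by rw [hNU hn, hp0]
    have hR0 : R p0 (n p0) := ⟨n, hn, Submodule.mem_span_singleton_self _⟩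
    by_cases h0 : B p0 (n p0) = 0
    · obtain ⟨r, -, hr, h1, h2⟩ := H.exists_partner H.nd_top le_top trivial hnp hp1 (fun x hx => by
        obtain ⟨a, rfl⟩ := Submodule.mem_span_singleton.1 hx
        simp [h0])
      obtain ⟨δ, hδ0, hδ⟩ := H.conj.exists_skew
      obtain ⟨t, ht⟩ := exists_isTv' hr δ
      have htS := ht.mem_SUG H hr (by simp [hδ])
      have hR1 := hconj t htS _ _ hR0
      rw [ht.apply_of_orth (H.eq_zero_symm (h2 p0 (Submodule.mem_span_singleton_self _)))] at hR1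
      have hp00 : p0 ≠ 0 := by
        rintro rfl
        simp at hnp
      refine ⟨n p0, t (n p0), hp1, by rw [SUG_le_UG htS, hp1], ?_,
        htrans _ _ _ (hsymm _ _ hp00 hR0) hR1⟩
      rw [ht]
      simp [hp1, h1, H.eq_one_symm h1, hδ0]
    · exact ⟨p0, n p0, hp0, hp1, h0, hR0⟩
  have stepC : ∀ z, z ≠ 0 → B z z = 0 → R p z := by
    intro z hz0 hz
    by_cases h0 : B p z = 0
    · obtain ⟨s, -, hs, h1, h2⟩ := H.exists_isotropic_not_orth H.nd_top trivial trivial
        (hne _ _ hpp') hz0 hp (H.eq_zero_symm h0)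
      have hps := stepB p p' s hp hp' hs hpp' h1 hR
      exact htrans _ _ _ hps (stepB s p z hs hp hz (fun h => h1 (H.eq_zero_symm h))
        (fun h => h2 (H.eq_zero_symm h)) (hsymm _ _ (hne _ _ hpp') hps))
    · exact stepB p p' z hp hp' hz hpp' h0 hR
  exact htrans _ _ _ (hsymm _ _ (hne _ _ hpp') (stepC x hx0 hx)) (stepC y hy0 hy)

/-- The root subgroup of transvections with centre `p`. -/
def _root_.CL.Herm.rootG (B : V →ₛₗ[σ] V →ₗ[F] F) {p : V} (hp : B p p = 0) :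
    Subgroup (V ≃ₗ[F] V) where
  carrier := {t | ∃ c, c + σ c = 0 ∧ IsTv B p c t}
  mul_mem' := fun ⟨c, hc, ht⟩ ⟨c', hc', ht'⟩ => ⟨c + c', by
    rw [map_add]
    linear_combination hc + hc', ht.mul hp ht'⟩
  one_mem' := ⟨0, by simp, IsTv.one p⟩
  inv_mem' := fun ⟨c, hc, ht⟩ => ⟨-c, by
    rw [map_neg]
    linear_combination -hc, ht.inv hp⟩

/-- A normal subgroup of `SU` is central or contains the commutator subgroup. -/
theorem le_center_or_commutator_le (h2 : 2 ≤ finrank F V) (hn : ¬ (finrank F V = 3 ∧ q = 2))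
    (N : Subgroup (SUG B)) [hN : N.Normal] :
    N ≤ Subgroup.center (SUG B) ∨ commutator (SUG B) ≤ N := by
  rw [or_iff_not_imp_left]
  intro hc
  obtain ⟨n, hnN, hnc⟩ := SetLike.not_le_iff_exists.1 hc
  rw [H.mem_center_SUG h2, not_exists] at hnc
  obtain ⟨p, -, hp0, hp⟩ := H.exists_isotropic H.nd_top (by simpa using h2)
  let A : Subgroup (SUG B) := (rootG B hp).subgroupOf (SUG B)
  have hA : IsMulCommutative A := ⟨⟨fun a b => by
    obtain ⟨c, -, ha⟩ := a.2
    obtain ⟨c', -, hb⟩ := b.2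
    exact Subtype.ext (Subtype.ext ((ha.mul hp hb).unique (add_comm c' c ▸ hb.mul hp ha)))⟩⟩
  refine hN.commutator_le_of_self_sup_commutative_eq_top ?_ hA
  refine H.eq_top_of_forall_isTv hn fun t x c hx hc ht => ?_
  by_cases hx0 : x = 0
  · have : t = 1 := Subtype.ext (ht.unique (hx0 ▸ IsTv.one' c))
    rw [this]
    exact one_mem _
  obtain ⟨_, ⟨m, hm, rfl⟩, hmx⟩ := H.exists_apply_mem_span h2 (N := N.map (SUG B).subtype)
    ((Subgroup.map_subtype_le N).trans SUG_le_UG)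
    (by
      rintro g hg _ ⟨m, hm, rfl⟩
      exact ⟨_, hN.conj_mem m hm ⟨g, hg⟩, rfl⟩)
    ⟨n, hnN, rfl⟩ hnc hx0 hp0 hx hp
  obtain ⟨a, ha⟩ := Submodule.mem_span_singleton.1 hmx
  have h1 := ht.conj (SUG_le_UG m.2)
  rw [show (m : V ≃ₗ[F] V) x = a • p from ha.symm] at h1
  have h3 : m * t * m⁻¹ ∈ A := ⟨_, by
    rw [map_mul, H.conj.conj_norm, ← add_mul, hc, zero_mul], h1.of_smul⟩
  have : t = m⁻¹ * (m * t * m⁻¹) * m := by group
  rw [this]
  exact mul_mem (mul_mem (Subgroup.mem_sup_left (inv_mem hm)) (Subgroup.mem_sup_right h3))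
    (Subgroup.mem_sup_left hm)

theorem center_SUG_ne_top (h2 : 2 ≤ finrank F V) : Subgroup.center (SUG B) ≠ ⊤ := by
  intro h
  obtain ⟨p, -, hp0, hp⟩ := H.exists_isotropic H.nd_top (by simpa using h2)
  obtain ⟨s, -, hs, hps⟩ := H.exists_partner' H.nd_top trivial hp0 hp
  obtain ⟨δ, hδ0, hδ⟩ := H.conj.exists_skew
  obtain ⟨t, ht⟩ := exists_isTv' hp δ
  obtain ⟨u, hu⟩ := (H.mem_center_SUG h2 (g := ⟨t, ht.mem_SUG H hp (by simp [hδ])⟩)).1
    (h ▸ Subgroup.mem_top _)
  have h1 : t s = (u : F) • s := LinearEquiv.congr_fun hu s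
  have h2 := congrArg (B s) h1
  rw [ht] at h2
  simp [hs, hps, H.eq_one_symm hps, hδ0] at h2

theorem le_center_or_eq_top (h3 : 3 ≤ finrank F V) (hn : ¬ (finrank F V = 3 ∧ q = 2))
    (N : Subgroup (SUG B)) [N.Normal] : N ≤ Subgroup.center (SUG B) ∨ N = ⊤ :=
  (H.le_center_or_commutator_le (by omega) hn N).imp id fun h =>
    top_le_iff.1 (H.commutator_SUG h3 hn ▸ h)

/-- `PSU` is simple in dimension at least three, except `PSU_3(2)`. -/
theorem isSimpleGroup_PSU (h3 : 3 ≤ finrank F V) (hn : ¬ (finrank F V = 3 ∧ q = 2)) :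
    IsSimpleGroup (SUG B ⧸ Subgroup.center (SUG B)) :=
  isSimpleGroup_quotient_center (H.center_SUG_ne_top (by omega))
    fun N _ => H.le_center_or_eq_top h3 hn N

end IsHerm

theorem Conj.isSimpleGroup_PSU (h : Conj σ q) {n : ℕ} (h3 : 3 ≤ n) (hn : ¬ (n = 3 ∧ q = 2)) :
    IsSimpleGroup (Cfsg.PSU n F q) := by
  have := (h.isHerm_std (Fin n)).isSimpleGroup_PSU (by simpa using h3) (by simpa using hn)
  exact (quotientCenterCongr (h.suEquiv n)).isSimpleGroup

theorem Conj.commutator_SU (h : Conj σ q) {n : ℕ} (h3 : 3 ≤ n) (hn : ¬ (n = 3 ∧ q = 2)) :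
    commutator (Cfsg.SU n F q) = ⊤ := by
  have := (h.isHerm_std (Fin n)).commutator_SUG (by simpa using h3) (by simpa using hn)
  apply Subgroup.map_injective (f := (h.suEquiv n).toMonoidHom) (h.suEquiv n).injective
  rw [map_commutator_eq, MonoidHom.range_eq_top.2 (h.suEquiv n).surjective,
    Subgroup.map_top_of_surjective _ (h.suEquiv n).surjective, ← commutator_def, this]

theorem Conj.isTv_suHom_iff (_h : Conj σ q) {n : ℕ} (A : Cfsg.SU n F q) (v : Fin n → F) (c : F) :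
    IsTv (stdForm σ (Fin n)) v c (suHom n F q A) ↔
      ((A : Matrix.SpecialLinearGroup (Fin n) F) : Matrix (Fin n) (Fin n) F) =
        Cfsg.unitaryTransvection n q v c := by
  have key : ∀ x, (Cfsg.unitaryTransvection n q v c).mulVec x =
      x + (c * stdForm σ (Fin n) v x) • v := fun x => by
    ext i
    simp [Cfsg.unitaryTransvection, Matrix.add_mulVec, Matrix.smul_mulVec, Matrix.vecMulVec_mulVec,
      stdForm_apply, _h.apply, dotProduct, mul_comm, mul_left_comm]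
  constructor
  · intro h
    exact Matrix.ext_iff_mulVec.2 fun x => by rw [key, ← h x, suHom_apply]
  · intro h x
    rw [suHom_apply, h, key]

end CL.Herm
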