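import Cfsg.Agent.Base
import Cfsg.Agent.Unitary.Std

/-!
# `SU_2(q) ≅ SL_2(q)`
-/

set_option autoImplicit false

namespace CL.Herm

open Module Matrix

variable {F : Type*} [Field F] {σ : F →+* F} {q : ℕ}

/-- A field with `q` elements embeds onto the fixed field of the conjugation. -/
theorem Conj.exists_ringHom (h : Conj σ q) (K : Type*) [Field K] [Fintype K]
    (hK : Fintype.card K = q) : ∃ ι : K →+* F, ∀ x, σ x = x ↔ x ∈ Set.range ι := by
  have := h.finite
  let K0 : Subfield F := σ.eqLocusField (RingHom.id F)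
  have := Fintype.ofFinite K0
  have hc : Fintype.card K = Fintype.card K0 := by
    rw [hK, ← Nat.card_eq_fintype_card, ← h.card_fixed]
    rfl
  let e := FiniteField.ringEquivOfCardEq hc
  refine ⟨K0.subtype.comp e.toRingHom, fun x => ⟨fun hx => ⟨e.symm ⟨x, hx⟩, by simp⟩, ?_⟩⟩
  rintro ⟨y, rfl⟩
  exact (e y).2

/-- The Hermitian form `δ (σ(u₀) v₁ - σ(u₁) v₀)` on the plane. -/
def skewForm (σ : F →+* F) (δ : F) : (Fin 2 → F) →ₛₗ[σ] (Fin 2 → F) →ₗ[F] F :=
  LinearMap.mk₂'ₛₗ σ (RingHom.id F) (fun u v => δ * (σ (u 0) * v 1 - σ (u 1) * v 0))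
    (fun u u' v => by simp only [Pi.add_apply, map_add]; ring)
    (fun c u v => by simp only [Pi.smul_apply, smul_eq_mul, map_mul]; ring)
    (fun u v v' => by simp only [Pi.add_apply]; ring)
    (fun c u v => by simp only [Pi.smul_apply, smul_eq_mul, RingHom.id_apply]; ring)

theorem skewForm_apply (δ : F) (u v : Fin 2 → F) :
    skewForm σ δ u v = δ * (σ (u 0) * v 1 - σ (u 1) * v 0) := rfl

theorem Conj.isHerm_skewForm (h : Conj σ q) {δ : F} (h0 : δ ≠ 0) (hδ : σ δ = -δ) :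
    IsHerm q (skewForm σ δ) where
  conj := h
  symm := fun x y => by
    simp only [skewForm_apply, map_mul, map_sub, hδ, h.invol]
    ring
  nd := fun x hx => by
    have h1 := hx ![0, 1]
    have h2 := hx ![1, 0]
    simp [skewForm_apply, h0] at h1 h2
    ext i
    fin_cases i <;> simp [h1, h2]

theorem range_sl_two {δ : F} (h0 : δ ≠ 0) {K : Type*} [Field K]
    (ι : K →+* F) (hι : ∀ x, σ x = x ↔ x ∈ Set.range ι) :
    (SpecialLinearGroup.toLin'.comp (SpecialLinearGroup.map (n := Fin 2) ι)).range =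
      SUG (skewForm σ δ) := by
  have hfix : ∀ x, σ (ι x) = ι x := fun x => (hι _).2 ⟨x, rfl⟩
  ext g
  rw [mem_SUG]
  constructor
  · rintro ⟨A, rfl⟩
    refine ⟨fun u v => ?_, ?_⟩
    · have hd := congrArg ι A.2
      rw [det_fin_two, map_sub, map_mul, map_mul, map_one] at hd
      simp only [MonoidHom.comp_apply, SpecialLinearGroup.toLin'_apply, toLin'_apply,
        skewForm_apply, mulVec, dotProduct, Fin.sum_univ_two, SpecialLinearGroup.map_apply_coe,
        RingHom.mapMatrix_apply, map_apply, map_add, map_mul, hfix]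
      linear_combination δ * (σ (u 0) * v 1 - σ (u 1) * v 0) * hd
    · rw [MonoidHom.comp_apply, SpecialLinearGroup.toLin'_to_linearMap, LinearMap.det_toLin']
      exact (SpecialLinearGroup.map ι A).2
  · rintro ⟨hg, hd⟩
    obtain ⟨M, rfl⟩ := (glEquiv (Fin 2) F).surjective g
    rw [det_glEquiv, det_fin_two] at hd
    have h1 := hg ![1, 0] ![1, 0]
    have h2 := hg ![1, 0] ![0, 1]
    have h3 := hg ![0, 1] ![1, 0]
    have h4 := hg ![0, 1] ![0, 1]
    simp [skewForm_apply, glEquiv_apply, h0] at h1 h2 h3 h4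
    replace h3 := mul_left_cancel₀ h0 (h3.trans (mul_neg_one δ).symm)
    obtain ⟨a, ha⟩ := (hι (M 0 0)).1 (by
      linear_combination (-σ (M 0 0)) * hd + M 0 0 * h2 - M 0 1 * h1)
    obtain ⟨c, hc⟩ := (hι (M 1 0)).1 (by
      linear_combination (-σ (M 1 0)) * hd + M 1 0 * h2 - M 1 1 * h1)
    obtain ⟨b, hb⟩ := (hι (M 0 1)).1 (by
      linear_combination (-σ (M 0 1)) * hd + M 0 0 * h4 - M 0 1 * h3)
    obtain ⟨d, hd'⟩ := (hι (M 1 1)).1 (by
      linear_combination (-σ (M 1 1)) * hd + M 1 0 * h4 - M 1 1 * h3)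
    refine ⟨⟨!![a, b; c, d], ι.injective ?_⟩, LinearEquiv.ext fun v => ?_⟩
    · rw [det_fin_two_of, map_sub, map_mul, map_mul, ha, hb, hc, hd', hd, map_one]
    · change (!![a, b; c, d].map ι) *ᵥ v = (M : Matrix (Fin 2) (Fin 2) F) *ᵥ v
      congr 1
      ext i j
      fin_cases i <;> fin_cases j <;> simp [ha, hb, hc, hd']

theorem IsHerm.nonempty_SUG_equiv_SL {V : Type*} [AddCommGroup V] [Module F V]
    [FiniteDimensional F V] {B : V →ₛₗ[σ] V →ₗ[F] F} (H : IsHerm q B) (h2 : finrank F V = 2)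
    (K : Type*) [Field K] [Fintype K] (hK : Fintype.card K = q) :
    Nonempty (SUG B ≃* SpecialLinearGroup (Fin 2) K) := by
  obtain ⟨ι, hι⟩ := H.conj.exists_ringHom K hK
  obtain ⟨δ, h0, hδ⟩ := H.conj.exists_skew
  obtain ⟨e1⟩ := H.nonempty_SUG_equiv_SU h2
  obtain ⟨e2⟩ := (H.conj.isHerm_skewForm h0 hδ).nonempty_SUG_equiv_SU (n := 2) (by simp)
  refine ⟨(e1.trans e2.symm).trans (mulEquivOfRange _ (fun A A' hA => ?_) _
    (range_sl_two h0 ι hι)).symm⟩
  have := SpecialLinearGroup.toLin'_injective hA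
  ext i j
  exact ι.injective (congrFun (congrFun (congrArg Subtype.val this) i) j)

end CL.Herm
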