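import Cfsg.Agent.Base
import Cfsg.Agent.Unitary.Center

/-!
# Stabilisers of subspaces in unitary groups
-/

set_option autoImplicit false

namespace CL.Herm

open Module

variable {F V : Type*} [Field F] [AddCommGroup V] [Module F V] {σ : F →+* F} {q : ℕ}
  {B : V →ₛₗ[σ] V →ₗ[F] F}

/-- The setwise stabiliser of a subspace. -/
def stabG (W : Submodule F V) : Subgroup (V ≃ₗ[F] V) where
  carrier := {g | ∀ x, x ∈ W ↔ g x ∈ W}
  mul_mem' {a b} ha hb := fun x => (hb x).trans (ha (b x))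
  one_mem' := fun _ => Iff.rfl
  inv_mem' {a} ha := fun x => by simpa using (ha (a⁻¹ x)).symm

theorem mem_stabG {W : Submodule F V} {g : V ≃ₗ[F] V} :
    g ∈ stabG W ↔ ∀ x, x ∈ W ↔ g x ∈ W := Iff.rfl

theorem mem_stabG_iff_map {W : Submodule F V} {g : V ≃ₗ[F] V} :
    g ∈ stabG W ↔ W.map (g : V →ₗ[F] V) = W := by
  constructor
  · intro h
    ext x
    obtain ⟨x, rfl⟩ := g.surjective x
    rw [← h x]
    exact ⟨fun ⟨y, hy, hyx⟩ => g.injective hyx ▸ hy, fun hx => ⟨x, hx, rfl⟩⟩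
  · intro h x
    conv_rhs => rw [← h]
    exact ⟨fun hx => ⟨x, hx, rfl⟩, fun ⟨y, hy, hyx⟩ => g.injective hyx ▸ hy⟩

theorem mem_stabG_of_forall [FiniteDimensional F V] {W : Submodule F V} {g : V ≃ₗ[F] V}
    (h : ∀ x ∈ W, g x ∈ W) : g ∈ stabG W :=
  mem_stabG_iff_map.2 (Submodule.eq_of_le_of_finrank_eq (by
    rintro _ ⟨x, hx, rfl⟩
    exact h x hx) (LinearEquiv.finrank_map_eq g W))

theorem fixG_le_stabG (W : Submodule F V) : fixG W ≤ stabG W := fun g hg x =>
  ⟨fun hx => by rwa [hg x hx], fun hx => by rwa [g.injective (hg _ hx)] at hx⟩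

/-- Restriction of an element of the stabiliser. -/
def resStab (W : Submodule F V) : stabG W →* (W ≃ₗ[F] W) where
  toFun g :=
    { toFun := fun x => ⟨g.1 x, (g.2 x).1 x.2⟩
      invFun := fun x => ⟨g.1⁻¹ x, ((g⁻¹).2 x).1 x.2⟩
      map_add' := fun x y => Subtype.ext (by simp)
      map_smul' := fun c x => Subtype.ext (by simp)
      left_inv := fun x => Subtype.ext (by simp)
      right_inv := fun x => Subtype.ext (by simp) }
  map_one' := rfl
  map_mul' _ _ := rfl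

theorem coe_resStab_apply (W : Submodule F V) (g : stabG W) (x : W) :
    (resStab W g x : V) = g.1 x := rfl

theorem stabG_perp {W : Submodule F V} {g : V ≃ₗ[F] V} (hg : g ∈ UG B) (hW : g ∈ stabG W) :
    g ∈ stabG (perp B W) := fun x =>
  ⟨fun hx y hy => by rw [UG_apply_right hg]; exact hx _ (((stabG W).inv_mem hW y).1 hy),
    fun hx y hy => by rw [← hg]; exact hx _ ((hW y).1 hy)⟩

/-- Restriction to `W` of the isometries stabilising `W`. -/
def resU (B : V →ₛₗ[σ] V →ₗ[F] F) (W : Submodule F V) :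
    (UG B ⊓ stabG W : Subgroup (V ≃ₗ[F] V)) →* UG (B.domRestrict₁₂ W W) :=
  ((resStab W).comp (Subgroup.inclusion inf_le_right)).codRestrict _ fun g x y => g.2.1 x y

theorem coe_resU_apply (W : Submodule F V) (g : (UG B ⊓ stabG W : Subgroup (V ≃ₗ[F] V))) (x : W) :
    ((resU B W g : W ≃ₗ[F] W) x : V) = g.1 x := rfl

theorem card_linearEquiv [Finite F] [FiniteDimensional F V] {k : ℕ} (hk : finrank F V = k) :
    Nat.card (V ≃ₗ[F] V) = ∏ i : Fin k, (Nat.card F ^ k - Nat.card F ^ (i : ℕ)) := by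
  have := Fintype.ofFinite F
  rw [Nat.card_congr (congrAut (finBasisOfFinrankEq F V hk).equivFun).toEquiv,
    ← Nat.card_congr (glEquiv (Fin k) F).toEquiv, Matrix.card_GL_field, Nat.card_eq_fintype_card]

variable [FiniteDimensional F V]

namespace IsHerm

variable (H : IsHerm q B)
include H

theorem resU_surjective (W : Submodule F V) : Function.Surjective (resU B W) := fun φ => by
  obtain ⟨g, hg, hg'⟩ := H.witt_equiv W W φ.1 φ.2
  refine ⟨⟨g, hg, mem_stabG_of_forall fun x hx => ?_⟩, ?_⟩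
  · rw [hg' ⟨x, hx⟩]
    exact Subtype.prop _
  · exact Subtype.ext (LinearEquiv.ext fun x => Subtype.ext (hg' x))

theorem card_UG_inf_stabG (W : Submodule F V) :
    Nat.card (UG B ⊓ stabG W : Subgroup (V ≃ₗ[F] V)) =
      Nat.card (UG (B.domRestrict₁₂ W W)) * Nat.card (UG B ⊓ fixG W : Subgroup (V ≃ₗ[F] V)) := by
  have hker : (resU B W).ker = (UG B ⊓ fixG W).subgroupOf (UG B ⊓ stabG W) := by
    ext g
    simp only [MonoidHom.mem_ker, Subgroup.mem_subgroupOf, Subgroup.mem_inf]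
    exact ⟨fun h => ⟨g.2.1,
      fun x hx => congrArg (fun φ : UG (B.domRestrict₁₂ W W) => (φ.1 ⟨x, hx⟩ : V)) h⟩,
      fun h => Subtype.ext (LinearEquiv.ext fun x => Subtype.ext (h.2 x x.2))⟩
  rw [← (resU B W).ker.index_mul_card, Subgroup.index_ker,
    MonoidHom.range_eq_top.2 (H.resU_surjective W), Subgroup.card_top, hker,
    Nat.card_congr (Subgroup.subgroupOfEquivOfLe (inf_le_inf_left _ (fixG_le_stabG W))).toEquiv]

/-- The stabiliser of a totally isotropic subspace. -/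
theorem card_UG_inf_stabG_iso {W : Submodule F V} (hW : W ≤ perp B W) {k m : ℕ}
    (hk : finrank F W = k) (hm : 2 * k + m = finrank F V) :
    Nat.card (UG B ⊓ stabG W : Subgroup (V ≃ₗ[F] V)) = q ^ (k * (k + 2 * m)) *
      (∏ i : Fin k, ((q ^ 2) ^ k - (q ^ 2) ^ (i : ℕ))) * guOrder q m := by
  have := H.conj.finite
  have h1 : UG (B.domRestrict₁₂ W W) = ⊤ := by
    rw [eq_top_iff]
    intro g _ x y
    exact (hW (g y).2 _ (g x).2).trans (hW y.2 _ x.2).symm
  have h2 := H.card_fix_iso m k nd_bot hW (by rw [perp_bot]; exact le_top) hk (by simpa using hm)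
  rw [sup_bot_eq] at h2
  rw [H.card_UG_inf_stabG, h1, Subgroup.card_top, card_linearEquiv hk, h2, H.conj.card]
  ring

/-- The stabiliser of a non-degenerate subspace is a direct product. -/
theorem nonempty_stabG_equiv_prod {W : Submodule F V} (hW : Nd B W) :
    Nonempty ((UG B ⊓ stabG W : Subgroup (V ≃ₗ[F] V)) ≃*
      UG (B.domRestrict₁₂ W W) × UG (B.domRestrict₁₂ (perp B W) (perp B W))) := by
  have hle : UG B ⊓ stabG W ≤ UG B ⊓ stabG (perp B W) := fun g hg => ⟨hg.1, stabG_perp hg.1 hg.2⟩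
  let Φ := (resU B W).prod ((resU B (perp B W)).comp (Subgroup.inclusion hle))
  have hinj : Function.Injective Φ := by
    rw [injective_iff_map_eq_one]
    intro g hg
    refine Subtype.ext (LinearEquiv.ext fun x => ?_)
    obtain ⟨a, ha, b, hb, rfl⟩ := H.exists_decomp hW x
    have h1 : g.1 a = a := congrArg (fun φ => (φ.1.1 ⟨a, ha⟩ : V)) hg
    have h2 : g.1 b = b := congrArg (fun φ => (φ.2.1 ⟨b, hb⟩ : V)) hg
    rw [map_add, h1, h2]
    rfl
  have := (H.restrict hW).finite_aut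
  have := (H.restrict (H.nd_perp hW)).finite_aut
  refine ⟨MulEquiv.ofBijective Φ (hinj.bijective_of_nat_card_le (le_of_eq ?_))⟩
  have := H.finrank_perp_add W
  rw [Nat.card_prod, H.card_UG_inf_stabG, (H.restrict (H.nd_perp hW)).card_UG,
    H.card_fix_nd (finrank F (perp B W)) hW (by omega)]

theorem card_inf_SUG {G : Subgroup (V ≃ₗ[F] V)} (hG : G ≤ UG B)
    (hd : ∀ d : F, d * σ d = 1 → ∃ g ∈ G, LinearMap.det (g : V →ₗ[F] V) = d) :
    (q + 1) * Nat.card (SUG B ⊓ G : Subgroup (V ≃ₗ[F] V)) = Nat.card G := by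
  let D : G →* Fˣ := LinearEquiv.det.comp G.subtype
  have hr : D.range = rootsOfUnity (q + 1) F := by
    ext u
    rw [H.conj.mem_rootsOfUnity]
    constructor
    · rintro ⟨g, rfl⟩
      change (LinearEquiv.det g.1 : F) * σ (LinearEquiv.det g.1 : F) = 1
      rw [LinearEquiv.coe_det]
      exact H.det_mul_conj (hG g.2)
    · intro hu
      obtain ⟨g, hg, hd⟩ := hd u hu
      exact ⟨⟨g, hg⟩, Units.ext ((LinearEquiv.coe_det g).trans hd)⟩
  have hk : D.ker = (SUG B ⊓ G).subgroupOf G := by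
    ext g
    simp only [MonoidHom.mem_ker, Subgroup.mem_subgroupOf, SUG, Subgroup.mem_inf, g.2, hG g.2,
      true_and, and_true]
    rfl
  rw [← D.ker.index_mul_card, Subgroup.index_ker, hr,
    H.conj.card_rootsOfUnity_of_dvd (dvd_refl _), hk,
    Nat.card_congr (Subgroup.subgroupOfEquivOfLe inf_le_right).toEquiv]

theorem exists_stabG_det (h1 : 1 ≤ finrank F V) {W : Submodule F V} (hW : W ≤ perp B W) {d : F}
    (hd : d * σ d = 1) : ∃ g ∈ UG B ⊓ stabG W, LinearMap.det (g : V →ₗ[F] V) = d := by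
  by_cases h0 : W = ⊥
  · have : Nontrivial V := Module.nontrivial_of_finrank_pos (R := F) (by omega)
    obtain ⟨e, -, he⟩ := H.exists_unit H.nd_top top_ne_bot
    obtain ⟨g, hg, -, hd⟩ := H.exists_quasiRefl he hd
    exact ⟨g, ⟨hg, fixG_le_stabG W (by rw [h0, fixG_bot]; trivial)⟩, hd⟩
  · obtain ⟨r, hrW, hr0⟩ := (Submodule.ne_bot_iff W).1 h0
    have hr : B r r = 0 := hW hrW r hrW
    obtain ⟨s, -, hs, hrs⟩ := H.exists_partner' H.nd_top trivial hr0 hr
    obtain ⟨a, ha0, ha⟩ := H.conj.exists_eq_mul_conj hd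
    have hσa : σ a ≠ 0 := (map_ne_zero σ).2 ha0
    obtain ⟨g, hg⟩ := H.exists_isDiag hs hrs ha0 (inv_ne_zero hσa)
    refine ⟨g, ⟨hg.mem_UG H hr hs hrs (mul_inv_cancel₀ hσa), mem_stabG_of_forall fun x hx => ?_⟩,
      ?_⟩
    · rw [hg x, hW hx r hrW, mul_zero, zero_smul, add_zero]
      exact W.add_mem hx (W.smul_mem _ hrW)
    · rw [hg.det H hs hrs, mul_inv_eq_iff_eq_mul₀ hσa]
      exact ha

theorem exists_totally_isotropic (k : ℕ) : ∀ {W : Submodule F V}, Nd B W → 2 * k ≤ finrank F W →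
    ∃ R ≤ W, R ≤ perp B R ∧ finrank F R = k := by
  induction k with
  | zero => exact fun _ _ => ⟨⊥, bot_le, bot_le, finrank_bot _ _⟩
  | succ k ih =>
    intro W hW hk
    obtain ⟨r, hrW, hr0, hr⟩ := H.exists_isotropic hW (by omega)
    obtain ⟨s, hsW, -, hrs⟩ := H.exists_partner' hW hrW hr0 hr
    have hrs0 : B r s ≠ 0 := by rw [hrs]; exact one_ne_zero
    have hPW : Submodule.span F {r, s} ≤ W :=
      Submodule.span_le.2 (by rintro x (rfl | rfl) <;> assumption)
    have hdim := H.finrank_inf_perp_add hW hPW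
    rw [finrank_span_pair hr hrs0] at hdim
    obtain ⟨R, hRW, hR, hRk⟩ := ih (H.nd_inf_perp hW (H.nd_span_pair hr hrs0) hPW) (by omega)
    have hrR : r ∉ R := fun h => hrs0 (H.eq_zero_symm (mem_perp_span_pair.1 (hRW h).2).2)
    have hRr : R ≤ perp B (F ∙ r) := fun x hx =>
      mem_perp_span_singleton.2 (mem_perp_span_pair.1 (hRW hx).2).1
    refine ⟨R ⊔ F ∙ r, sup_le (hRW.trans inf_le_left)
      ((Submodule.span_singleton_le_iff_mem _ _).2 hrW), ?_,
      by rw [Submodule.finrank_sup_span_singleton hrR, hRk]⟩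
    rw [perp_sup]
    exact sup_le (le_inf hR hRr) (le_inf (H.le_perp_comm hRr)
      ((Submodule.span_singleton_le_iff_mem _ _).2 (mem_perp_span_singleton.2 hr)))

/-- The unitary group is transitive on totally isotropic subspaces of given dimension. -/
theorem exists_map_eq_of_isotropic {W W' : Submodule F V} (hW : W ≤ perp B W)
    (hW' : W' ≤ perp B W') (h : finrank F W = finrank F W') :
    ∃ g ∈ UG B, W.map (g : V →ₗ[F] V) = W' := by
  obtain ⟨φ⟩ := FiniteDimensional.nonempty_linearEquiv_of_finrank_eq h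
  obtain ⟨g, hg, hg'⟩ := H.witt_equiv W W' φ fun x y =>
    (hW' (φ y).2 _ (φ x).2).trans (hW y.2 _ x.2).symm
  refine ⟨g, hg, Submodule.eq_of_le_of_finrank_eq ?_ ((LinearEquiv.finrank_map_eq g W).trans h)⟩
  rintro _ ⟨x, hx, rfl⟩
  rw [LinearEquiv.coe_coe, hg' ⟨x, hx⟩]
  exact Subtype.prop _

open Pointwise in
/-- The number of totally isotropic subspaces of dimension `k`. -/
theorem card_totally_isotropic {k m : ℕ} (hm : 2 * k + m = finrank F V) :
    Nat.card {W : Submodule F V // finrank F W = k ∧ W ≤ perp B W} * (q ^ (k * (k + 2 * m)) *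
      (∏ i : Fin k, ((q ^ 2) ^ k - (q ^ 2) ^ (i : ℕ))) * guOrder q m) = guOrder q (2 * k + m) := by
  obtain ⟨R, -, hR, hRk⟩ := H.exists_totally_isotropic k H.nd_top (by simp; omega)
  have hsm : ∀ (g : UG B) (W : Submodule F V), g • W = W.map (g.1 : V →ₗ[F] V) := fun _ _ => rfl
  rw [hm, ← H.card_UG, ← H.card_UG_inf_stabG_iso hR hRk hm,
    ← Nat.card_congr (MulAction.orbitProdStabilizerEquivGroup (UG B) R), Nat.card_prod]
  congr 1
  · refine Nat.card_congr (Equiv.subtypeEquivRight fun W => ⟨fun h => ?_, ?_⟩)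
    · obtain ⟨g, hg, hg'⟩ := H.exists_map_eq_of_isotropic hR h.2 (hRk.trans h.1.symm)
      exact ⟨⟨g, hg⟩, hg'⟩
    · rintro ⟨g, rfl⟩
      simp only [hsm]
      refine ⟨(LinearEquiv.finrank_map_eq g.1 R).trans hRk, ?_⟩
      rintro _ ⟨x, hx, rfl⟩ _ ⟨y, hy, rfl⟩
      exact (g.2 y x).trans (hR hx y hy)
  · exact Nat.card_congr ⟨fun g => ⟨⟨g.1, g.2.1⟩, mem_stabG_iff_map.1 g.2.2⟩,
      fun g => ⟨g.1.1, g.1.2, mem_stabG_iff_map.2 g.2⟩, fun _ => rfl, fun _ => rfl⟩

end IsHerm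

theorem Conj.map_suHom_stabilizing (h : Conj σ q) {n : ℕ} (W : Submodule F (Fin n → F)) :
    ((Cfsg.stabilizing (Cfsg.slToMat n F) (W : Set (Fin n → F))).subgroupOf (Cfsg.SU n F q)).map
      (suHom n F q) = SUG (stdForm σ (Fin n)) ⊓ stabG W := by
  rw [← h.range_suHom]
  ext g
  constructor
  · rintro ⟨a, ha, rfl⟩
    exact ⟨⟨a, rfl⟩, ha⟩
  · rintro ⟨⟨a, rfl⟩, ha⟩
    exact ⟨a, ha, rfl⟩

theorem Conj.map_guHom_stabilizing (h : Conj σ q) {n : ℕ} (W : Submodule F (Fin n → F)) :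
    ((Cfsg.stabilizing (Cfsg.glToMat (Fin n) F) (W : Set (Fin n → F))).subgroupOf
      (Cfsg.GU n F q)).map (guHom n F q) = UG (stdForm σ (Fin n)) ⊓ stabG W := by
  rw [← h.range_guHom]
  ext g
  constructor
  · rintro ⟨a, ha, rfl⟩
    exact ⟨⟨a, rfl⟩, ha⟩
  · rintro ⟨⟨a, rfl⟩, ha⟩
    exact ⟨a, ha, rfl⟩

end CL.Herm
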